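import Cfsg.Agent.DD.D
import Cfsg.Agent.H3.ZCor

/-! Sylow 2-subgroups of type `G₂(q)`: coordinates. -/

set_option autoImplicit false
set_option linter.unusedSectionVars false
set_option linter.unusedVariables false

namespace GA2

open Cfsg Subgroup FT H4 GW MT
open H5 (IsSylowOf mem_of_eq)

/-- the four-group acting on the torus -/
inductive K | o | s | r | p

def K.mul : K → K → K
  | o, o => o | o, s => s | o, r => r | o, p => p
  | s, o => s | s, s => o | s, r => p | s, p => r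
  | r, o => r | r, s => p | r, r => o | r, p => s
  | p, o => p | p, s => r | p, r => s | p, p => o

def K.a1 {A : Type} [Neg A] : K → A → A → A
  | o, i, _ => i | s, _, j => j | r, i, _ => -i | p, _, j => -j

def K.a2 {A : Type} [Neg A] : K → A → A → A
  | o, _, j => j | s, i, _ => i | r, _, j => -j | p, i, _ => -i

def K.sw : K → K
  | o => o | s => p | r => r | p => s

theorem kk : (∀ (A : Type) [Neg A] (i j : A), K.o.a1 i j = i) ∧
    (∀ (A : Type) [Neg A] (i j : A), K.s.a1 i j = j) ∧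
    (∀ (A : Type) [Neg A] (i j : A), K.r.a1 i j = -i) ∧
    (∀ (A : Type) [Neg A] (i j : A), K.p.a1 i j = -j) ∧
    (∀ (A : Type) [Neg A] (i j : A), K.o.a2 i j = j) ∧
    (∀ (A : Type) [Neg A] (i j : A), K.s.a2 i j = i) ∧
    (∀ (A : Type) [Neg A] (i j : A), K.r.a2 i j = -j) ∧
    (∀ (A : Type) [Neg A] (i j : A), K.p.a2 i j = -i) ∧
    (∀ k, K.o.mul k = k) ∧ (∀ k, K.mul k K.o = k) ∧ (∀ k, K.mul k k = K.o) ∧
    K.s.mul K.r = K.p ∧ K.s.mul K.p = K.r ∧ K.r.mul K.s = K.p ∧ K.r.mul K.p = K.s ∧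
    K.p.mul K.s = K.r ∧ K.p.mul K.r = K.s ∧
    K.o ≠ K.s ∧ K.o ≠ K.r ∧ K.o ≠ K.p ∧ K.s ≠ K.o ∧ K.s ≠ K.r ∧ K.s ≠ K.p ∧
    K.r ≠ K.o ∧ K.r ≠ K.s ∧ K.r ≠ K.p ∧ K.p ≠ K.o ∧ K.p ≠ K.s ∧ K.p ≠ K.r := by
  refine ⟨fun _ _ _ _ => rfl, fun _ _ _ _ => rfl, fun _ _ _ _ => rfl, fun _ _ _ _ => rfl,
    fun _ _ _ _ => rfl, fun _ _ _ _ => rfl, fun _ _ _ _ => rfl, fun _ _ _ _ => rfl,
    fun k => by cases k <;> rfl,
    fun k => by cases k <;> rfl, fun k => by cases k <;> rfl, rfl, rfl, rfl, rfl, rfl, rfl, ?_⟩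
  simp

universe u

variable {G : Type u} [Group G] [Finite G] {A : Type} [CommRing A] {S : Subgroup G}
  {E : A → A → K → G} {ν i j a b : A} {κ : K} {g k t v : G}

/-- `S = (Z_m × Z_m) ⋊ (Z₂ × Z₂)` is a Sylow 2-subgroup, `m = 4 ν` -/
structure P (S : Subgroup G) (E : A → A → K → G) (ν : A) : Prop where
  syl : IsSylowOf 2 S ⊤
  mul : ∀ i j κ i' j' κ', E i j κ * E i' j' κ' = E (i + κ.a1 i' j') (j + κ.a2 i' j') (κ.mul κ')
  eq : ∀ i j κ i' j' κ', E i j κ = E i' j' κ' ↔ i = i' ∧ j = j' ∧ κ = κ'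
  mem : ∀ i j κ, E i j κ ∈ S
  dec : ∀ g ∈ S, ∃ i j κ, E i j κ = g
  n4 : 4 * ν = 0
  n2 : 2 * ν ≠ 0
  two : ∀ i : A, 2 * i = 0 → i = 0 ∨ i = 2 * ν
  par : ∀ i : A, ∃ j, i = 2 * j ∨ i = 2 * j + 1
  odd : ∀ j : A, 2 * j ≠ 1
  cyc : ∀ i : A, ∃ n : ℤ, i = n
  big : ν = 1 ∨ ∃ μ, ν = 2 * μ

/-- the symmetry `y ↦ y⁻¹` -/
def sy (E : A → A → K → G) : A → A → K → G := fun i j κ => E i (-j) κ.sw

/-- extended centralizer -/
def Pm (a : G) : Subgroup G where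
  carrier := {g | g * a * g⁻¹ = a ∨ g * a * g⁻¹ = a⁻¹}
  one_mem' := Or.inl (by simp)
  mul_mem' := by
    rintro x y (hx | hx) (hy | hy)
    · exact Or.inl (by
        calc _ = x * (y * a * y⁻¹) * x⁻¹ := by group
          _ = _ := by rw [hy, hx])
    · exact Or.inr (by
        calc _ = x * (y * a * y⁻¹) * x⁻¹ := by group
          _ = (x * a * x⁻¹)⁻¹ := by rw [hy]; group
          _ = _ := by rw [hx])
    · exact Or.inr (by
        calc _ = x * (y * a * y⁻¹) * x⁻¹ := by group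
          _ = _ := by rw [hy, hx])
    · exact Or.inl (by
        calc _ = x * (y * a * y⁻¹) * x⁻¹ := by group
          _ = (x * a * x⁻¹)⁻¹ := by rw [hy]; group
          _ = _ := by rw [hx, inv_inv])
  inv_mem' := by
    rintro x (hx | hx)
    · exact Or.inl (by nth_rewrite 1 [← hx]; group)
    · exact Or.inr (by
        calc _ = (x⁻¹ * a⁻¹ * x)⁻¹ := by group
          _ = _ := by nth_rewrite 1 [← hx]; group)

theorem mPm {a g : G} : g ∈ Pm a ↔ g * a * g⁻¹ = a ∨ g * a * g⁻¹ = a⁻¹ := Iff.rfl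

theorem Pm_nor (a : G) : Pm a ≤ Nor (Cen1 a) := fun g hg => mnor fun x hx => by
  have := DD.c1j hx g
  rcases mPm.1 hg with e | e <;> rw [e] at this
  · exact this
  · exact c1s.1 ((Cen1 _).inv_mem (c1s.1 this) |> fun h => by rwa [inv_inv] at h)

theorem cen_le_Pm (a : G) : Cen1 a ≤ Pm a := fun g hg => Or.inl (c1'.1 hg)

namespace P
variable (h : P S E ν)
include h

theorem one : E 0 0 K.o = 1 := by
  have := h.mul 0 0 K.o 0 0 K.o
  simp only [kk, add_zero] at this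
  exact mul_eq_left.1 this

theorem inv (i j : A) (κ : K) : (E i j κ)⁻¹ = E (-κ.a1 i j) (-κ.a2 i j) κ := by
  rw [inv_eq_iff_mul_eq_one, h.mul, ← h.one, h.eq]
  cases κ <;> simp [kk]

theorem eq1 (i j : A) (κ : K) : E i j κ = 1 ↔ i = 0 ∧ j = 0 ∧ κ = K.o := by
  rw [← h.one, h.eq]

/-- the rewriting system -/
theorem ss : (∀ i j κ i' j' κ', E i j κ * E i' j' κ' =
      E (i + κ.a1 i' j') (j + κ.a2 i' j') (κ.mul κ')) ∧
    (∀ i j κ, (E i j κ)⁻¹ = E (-κ.a1 i j) (-κ.a2 i j) κ) ∧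
    (∀ i j κ i' j' κ', E i j κ = E i' j' κ' ↔ i = i' ∧ j = j' ∧ κ = κ') ∧
    (∀ i j κ, E i j κ = 1 ↔ i = 0 ∧ j = 0 ∧ κ = K.o) ∧
    (∀ i j κ i' j' κ', E i j κ ∈ Cen1 (E i' j' κ') ↔
      E i j κ * E i' j' κ' = E i' j' κ' * E i j κ) :=
  ⟨h.mul, h.inv, h.eq, h.eq1, fun _ _ _ _ _ _ => c1⟩

theorem symm : P S (sy E) ν where
  syl := h.syl
  mul := fun i j κ i' j' κ' => by
    simp only [sy, h.ss]
    cases κ <;> cases κ' <;> simp [kk, K.sw, add_comm]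
  eq := fun i j κ i' j' κ' => by
    simp only [sy, h.ss]
    cases κ <;> cases κ' <;> simp [kk, K.sw]
  mem := fun i j κ => h.mem _ _ _
  dec := fun g hg => by
    obtain ⟨i, j, κ, rfl⟩ := h.dec g hg
    exact ⟨i, -j, κ.sw, by cases κ <;> simp [sy, K.sw]⟩
  n4 := h.n4
  n2 := h.n2
  two := h.two
  par := h.par
  odd := h.odd
  cyc := h.cyc
  big := h.big

theorem two' (e : 2 * i = 2 * ν) : i = ν ∨ i = -ν :=
  (h.two (i - ν) (by linear_combination e)).imp (fun e => by linear_combination e)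
    fun e => by linear_combination e + h.n4

theorem n2' : (0 : A) ≠ 2 * ν := h.n2.symm

theorem nn : -(2 * ν) = 2 * ν := by linear_combination -h.n4

theorem two0 : (2 : A) ≠ 0 := fun e => h.n2 (by rw [e, zero_mul])

theorem pg : IsPGroup 2 S := h.syl.isPGroup

/-- submonoids of `S` given by coordinates -/
def smo (q : A → A → K → Prop) (h0 : q 0 0 K.o)
    (h1 : ∀ i j κ i' j' κ', q i j κ → q i' j' κ' →
      q (i + κ.a1 i' j') (j + κ.a2 i' j') (κ.mul κ')) : Submonoid G where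
  carrier := {g | ∃ i j κ, q i j κ ∧ E i j κ = g}
  one_mem' := ⟨0, 0, K.o, h0, h.one⟩
  mul_mem' := by
    rintro _ _ ⟨i, j, κ, e, rfl⟩ ⟨i', j', κ', e', rfl⟩
    exact ⟨_, _, _, h1 _ _ _ _ _ _ e e', (h.mul _ _ _ _ _ _).symm⟩

/-- subgroups of `S` given by coordinates -/
def sub (q : A → A → K → Prop) (h0 : q 0 0 K.o)
    (h1 : ∀ i j κ i' j' κ', q i j κ → q i' j' κ' →
      q (i + κ.a1 i' j') (j + κ.a2 i' j') (κ.mul κ')) : Subgroup G :=
  { h.smo q h0 h1 with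
    inv_mem' := fun {x} hx => by
      have := (h.smo q h0 h1).pow_mem hx (orderOf x - 1)
      rwa [eq_inv_of_mul_eq_one_left (show x ^ (orderOf x - 1) * x = 1 by
        rw [← pow_succ, Nat.sub_add_cancel (orderOf_pos x), pow_orderOf_eq_one])] at this }

theorem msub {q h0 h1} : E i j κ ∈ h.sub q h0 h1 ↔ q i j κ :=
  ⟨fun ⟨i', j', κ', e, e'⟩ => by
    obtain ⟨rfl, rfl, rfl⟩ := (h.eq _ _ _ _ _ _).1 e'; exact e, fun e => ⟨_, _, _, e, rfl⟩⟩

theorem sub_le {q h0 h1} : h.sub q h0 h1 ≤ S := fun _ ⟨i', j', κ', e, e'⟩ => e' ▸ h.mem _ _ _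

theorem dsub {q h0 h1} (hg : g ∈ h.sub q h0 h1) : ∃ i j κ, q i j κ ∧ E i j κ = g := hg

/-- the torus -/
def T : Subgroup G := h.sub (fun _ _ κ => κ = K.o) rfl (by rintro _ _ _ _ _ _ rfl rfl; rfl)

/-- the torus extended by one element of the four-group -/
def M (l : K) : Subgroup G := h.sub (fun _ _ κ => κ = K.o ∨ κ = l) (Or.inl rfl) (by
  rintro _ _ _ _ _ _ (rfl | rfl) (rfl | rfl) <;> simp [kk])

/-- the central product of the two quaternion groups -/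
def R : Subgroup G := h.sub (fun i j _ => ∃ c, i + j = 2 * c) ⟨0, by simp⟩ (by
  rintro i j κ i' j' κ' ⟨c, e⟩ ⟨c', e'⟩
  cases κ <;> simp only [kk]
  exacts [⟨c + c', by linear_combination e + e'⟩, ⟨c + c', by linear_combination e + e'⟩,
    ⟨c - c', by linear_combination e - e'⟩, ⟨c - c', by linear_combination e - e'⟩])

/-- the first quaternion group -/
def Q : Subgroup G := h.sub (fun i j κ => (κ = K.o ∧ i = j) ∨ (κ = K.p ∧ i = j + 2 * ν))
  (Or.inl ⟨rfl, rfl⟩) (by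
  rintro _ _ _ _ _ _ (⟨rfl, rfl⟩ | ⟨rfl, rfl⟩) (⟨rfl, rfl⟩ | ⟨rfl, rfl⟩) <;>
    simp only [kk, true_and, false_and, or_false, false_or]
  · ring
  · ring
  · linear_combination h.n4)

theorem mT : E i j κ ∈ h.T ↔ κ = K.o := h.msub
theorem mM {l : K} : E i j κ ∈ h.M l ↔ κ = K.o ∨ κ = l := h.msub
theorem mR : E i j κ ∈ h.R ↔ ∃ c, i + j = 2 * c := h.msub
theorem mQ : E i j κ ∈ h.Q ↔ (κ = K.o ∧ i = j) ∨ (κ = K.p ∧ i = j + 2 * ν) := h.msub
theorem TS : h.T ≤ S := h.sub_le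
theorem MS (l : K) : h.M l ≤ S := h.sub_le
theorem RS : h.R ≤ S := h.sub_le
theorem QS : h.Q ≤ S := h.sub_le

theorem dT (hg : g ∈ h.T) : ∃ i j, E i j K.o = g := by
  obtain ⟨i, j, _, rfl, e⟩ := h.dsub hg; exact ⟨i, j, e⟩

theorem symT : h.symm.T = h.T := by
  ext g
  constructor <;> intro hg
  · obtain ⟨i, j, rfl⟩ := h.symm.dT hg; exact h.mT.2 rfl
  · obtain ⟨i, j, rfl⟩ := h.dT hg
    exact mem_of_eq (h.symm.mT (i := i) (j := -j) |>.2 rfl) (by simp [sy, K.sw])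

theorem relM {l : K} (hl : l ≠ K.o) : (h.M l).relIndex S = 2 := by
  obtain ⟨l', e1, e2⟩ : ∃ l', l' ≠ K.o ∧ l' ≠ l := by
    cases l
    exacts [⟨K.s, by simp⟩, ⟨K.r, by simp⟩, ⟨K.s, by simp⟩, ⟨K.s, by simp⟩]
  refine DD.rel2 (h.MS l) (h.mem 0 0 l') (by simp [h.mM, e1, e2]) fun x hx y hy => ?_
  obtain ⟨i, j, κ, rfl⟩ := h.dec x hx
  obtain ⟨i', j', κ', rfl⟩ := h.dec y hy
  rw [h.mul, h.mM, h.mM, h.mM]
  cases l <;> cases κ <;> cases κ' <;> simp [kk] at hl ⊢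

theorem xR : E 1 0 K.o ∉ h.R := fun e => by
  obtain ⟨c, e⟩ := h.mR.1 e
  exact h.odd c (by linear_combination -e)

theorem nR (e : E i j κ ∉ h.R) : ∃ c, i + j = 2 * c + 1 := by
  obtain ⟨c, e' | e'⟩ := h.par (i + j)
  exacts [absurd (h.mR.2 ⟨c, e'⟩) e, ⟨c, e'⟩]

theorem mulR {x y : G} (hx : x ∈ S) (hy : y ∈ S) (h1 : x ∉ h.R) (h2 : y ∉ h.R) : x * y ∈ h.R := by
  obtain ⟨i, j, κ, rfl⟩ := h.dec x hx
  obtain ⟨i', j', κ', rfl⟩ := h.dec y hy
  obtain ⟨c, e⟩ := h.nR h1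
  obtain ⟨c', e'⟩ := h.nR h2
  rw [h.mul, h.mR]
  cases κ <;> simp only [kk]
  exacts [⟨c + c' + 1, by linear_combination e + e'⟩, ⟨c + c' + 1, by linear_combination e + e'⟩,
    ⟨c - c', by linear_combination e - e'⟩, ⟨c - c', by linear_combination e - e'⟩]

theorem relR : h.R.relIndex S = 2 :=
  DD.rel2 h.RS (h.mem 1 0 K.o) h.xR fun x hx y hy => h.mulR hx hy

theorem sq (hg : g ∈ S) : g * g ∈ h.T := by
  obtain ⟨i, j, κ, rfl⟩ := h.dec g hg
  rw [h.mul, h.mT]; simp only [kk]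

theorem invT (e : E i j K.o * E i j K.o = 1) :
    (i = 0 ∨ i = 2 * ν) ∧ (j = 0 ∨ j = 2 * ν) := by
  simp only [h.ss, kk, and_true] at e
  exact ⟨h.two i (by linear_combination e.1), h.two j (by linear_combination e.2)⟩

theorem zz : E (2 * ν) (2 * ν) K.o * E (2 * ν) (2 * ν) K.o = 1 := by
  simp only [h.ss, kk, and_true, and_self]; linear_combination h.n4

theorem oz : orderOf (E (2 * ν) (2 * ν) K.o) = 2 :=
  MT.o2 h.zz (by simp [h.ss, h.n2])

theorem uu : E (2 * ν) 0 K.o * E (2 * ν) 0 K.o = 1 := by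
  simp only [h.ss, kk, and_true, add_zero]; linear_combination h.n4

theorem ou : orderOf (E (2 * ν) 0 K.o) = 2 := MT.o2 h.uu (by simp [h.ss, h.n2])

theorem rr (i j : A) : E i j K.r * E i j K.r = 1 := by simp [h.ss, kk]

theorem orr (i j : A) : orderOf (E i j K.r) = 2 := MT.o2 (h.rr i j) (by simp [h.ss])

theorem os : orderOf (E 0 0 K.s) = 2 := MT.o2 (by simp [h.ss, kk]) (by simp [h.ss])

theorem op : orderOf (E 0 0 K.p) = 2 := MT.o2 (by simp [h.ss, kk]) (by simp [h.ss])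

theorem aa : E ν ν K.o * E ν ν K.o = E (2 * ν) (2 * ν) K.o := by
  simp only [h.ss, kk, and_true, and_self]; ring

theorem bb : E ν (-ν) K.o * E ν (-ν) K.o = E (2 * ν) (2 * ν) K.o := by
  simp only [h.ss, kk, and_true]; exact ⟨by ring, by linear_combination -h.n4⟩

theorem Sz : S ≤ Cen1 (E (2 * ν) (2 * ν) K.o) := fun g hg => by
  obtain ⟨i, j, κ, rfl⟩ := h.dec g hg
  cases κ <;> simp [h.ss, kk, h.nn, add_comm]

theorem symz : sy E (2 * ν) (2 * ν) K.o = E (2 * ν) (2 * ν) K.o := by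
  simp [sy, K.sw, h.nn]

/-- the involutions of `S` -/
theorem invol (hv : v ∈ S) (e : v * v = 1) : v ∈ h.T ∨ (∃ i, v = E i (-i) K.s) ∨
    (∃ i j, v = E i j K.r) ∨ ∃ i, v = E i i K.p := by
  obtain ⟨i, j, κ, rfl⟩ := h.dec v hv
  cases κ <;> simp only [h.ss, kk, and_true] at e
  · exact Or.inl (h.mT.2 rfl)
  · exact Or.inr (Or.inl ⟨i, by rw [show j = -i by linear_combination e.1]⟩)
  · exact Or.inr (Or.inr (Or.inl ⟨i, j, rfl⟩))
  · exact Or.inr (Or.inr (Or.inr ⟨i, by rw [show j = i by linear_combination e.2]⟩))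

theorem cjs (i : A) : E i 0 K.o * E 0 0 K.s * (E i 0 K.o)⁻¹ = E i (-i) K.s := by simp [h.ss, kk]

theorem cjp (i : A) : E i 0 K.o * E 0 0 K.p * (E i 0 K.o)⁻¹ = E i i K.p := by simp [h.ss, kk]

theorem cju : E 0 0 K.s * E (2 * ν) 0 K.o * (E 0 0 K.s)⁻¹ = E 0 (2 * ν) K.o := by simp [h.ss, kk]

theorem invT' (hv : v ∈ h.T) (o : orderOf v = 2) :
    v = E (2 * ν) (2 * ν) K.o ∨ v = E (2 * ν) 0 K.o ∨ v = E 0 (2 * ν) K.o := by
  obtain ⟨i, j, rfl⟩ := h.dT hv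
  obtain ⟨rfl | rfl, rfl | rfl⟩ := h.invT (ii o)
  · exact absurd h.one (ine o)
  all_goals simp

theorem invTc (hv : v ∈ h.T) (o : orderOf v = 2) (ne : v ≠ E (2 * ν) (2 * ν) K.o) :
    IsConj (E (2 * ν) 0 K.o) v := by
  rcases h.invT' hv o with e | rfl | rfl
  exacts [absurd e ne, IsConj.refl _, h.cju ▸ isConj_mk _ _]

theorem cent (ht : t ∈ S) (o : orderOf t = 2) (c : S ≤ Cen1 t) : t = E (2 * ν) (2 * ν) K.o := by
  have c1 := c (h.mem 1 0 K.o)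
  have c2 := c (h.mem 0 0 K.s)
  have o1 := h.odd 0
  have o2 := h.two0
  rcases h.invol ht (ii o) with e | ⟨i, rfl⟩ | ⟨i, j, rfl⟩ | ⟨i, rfl⟩
  · rcases h.invT' e o with e | rfl | rfl
    · exact e
    all_goals simp [h.ss, kk, h.n2, h.n2'] at c2
  all_goals simp only [h.ss, kk] at c1
  · exact absurd (by linear_combination -c1.1) o1
  · exact absurd (by linear_combination c1.1) o2
  · exact absurd (by linear_combination -c1.1) o1

/-- noncentral involutions `v` are conjugate to `v z` -/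
theorem cjz (hv : v ∈ S) (o : orderOf v = 2) (ne : v ≠ E (2 * ν) (2 * ν) K.o) :
    IsConj v (v * E (2 * ν) (2 * ν) K.o) := by
  have n4 := h.n4
  rcases h.invol hv (ii o) with e | ⟨i, rfl⟩ | ⟨i, j, rfl⟩ | ⟨i, rfl⟩
  · rcases h.invT' e o with e | rfl | rfl
    · exact absurd e ne
    all_goals
      refine isConj_iff.2 ⟨E 0 0 K.s, ?_⟩
      simp only [h.ss, kk, and_true]
      constructor <;> first | ring1 | linear_combination -n4
  · refine isConj_iff.2 ⟨E (2 * ν) 0 K.o, ?_⟩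
    simp only [h.ss, kk, and_true]
    constructor <;> first | ring1 | linear_combination -n4
  · refine isConj_iff.2 ⟨E ν ν K.o, ?_⟩
    simp only [h.ss, kk, and_true]
    constructor <;> linear_combination n4
  · refine isConj_iff.2 ⟨E (2 * ν) 0 K.o, ?_⟩
    simp only [h.ss, kk, and_true]
    constructor <;> linear_combination n4

/-- weak closure of the torus -/
theorem wc (h1 : k * E ν 0 K.o * k⁻¹ ∈ S) (h2 : k * E 0 ν K.o * k⁻¹ ∈ S) (ht : t ∈ h.T)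
    (e : k * t * k⁻¹ ∈ S) : k * t * k⁻¹ ∈ h.T := by
  obtain ⟨i, j, rfl⟩ := h.dT ht
  have u1 : k * E (2 * ν) 0 K.o * k⁻¹ ∈ h.T := mem_of_eq (h.sq h1) (by
    rw [conj_mul]; simp [h.ss, kk, two_mul])
  have u2 : k * E 0 (2 * ν) K.o * k⁻¹ ∈ h.T := mem_of_eq (h.sq h2) (by
    rw [conj_mul]; simp [h.ss, kk, two_mul])
  by_cases e2 : E i j K.o * E i j K.o = 1
  · obtain ⟨rfl | rfl, rfl | rfl⟩ := h.invT e2
    · rw [h.one, mul_one, mul_inv_cancel]; exact one_mem _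
    · exact u2
    · exact u1
    · exact mem_of_eq (mul_mem u1 u2) (by rw [conj_mul]; simp [h.ss, kk])
  have c1 := DD.c1j (k := k) (show E i j K.o ∈ Cen1 (E (2 * ν) 0 K.o) by simp [h.ss, kk, add_comm])
  have c2 := DD.c1j (k := k) (show E i j K.o ∈ Cen1 (E 0 (2 * ν) K.o) by simp [h.ss, kk, add_comm])
  have ne : k * E (2 * ν) 0 K.o * k⁻¹ ≠ k * E 0 (2 * ν) K.o * k⁻¹ := fun e => by
    have := mul_left_cancel (mul_right_cancel e)
    simp [h.ss, h.n2] at this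
  have e3 : k * E i j K.o * k⁻¹ * (k * E i j K.o * k⁻¹) ≠ 1 := by
    rw [conj_mul]; exact fun e => e2 (by simpa using e)
  obtain ⟨a, b, κ, e4⟩ := h.dec _ e
  rw [← e4] at c1 c2 e3 ⊢
  have n2 := h.n2
  have n2' := h.n2'
  rcases h.invT' u1 (iconj h.ou k) with e5 | e5 | e5 <;>
    rcases h.invT' u2 (iconj (h.cju ▸ iconj h.ou _) k) with e6 | e6 | e6 <;>
    rw [e5, e6] at ne <;> rw [e5] at c1 <;> rw [e6] at c2 <;>
    cases κ <;> simp [h.ss, kk, h.mT, h.nn, add_comm, n2, n2'] at *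

end P

end GA2
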