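import Cfsg.Agent.GA2.A

/-! Sylow 2-subgroups of type `G₂(q)`: fusion of involutions. -/

set_option autoImplicit false
set_option linter.unusedSectionVars false
set_option linter.unusedVariables false

namespace GA2

open Cfsg Subgroup FT H4 GW MT
open H5 (IsSylowOf mem_of_eq)

universe u

variable {G : Type u} [Group G] [Finite G] {A : Type} [CommRing A] {S : Subgroup G}
  {E : A → A → K → G} {ν i j a b : A} {κ : K} {g k t v : G}

theorem cjinv (k x : G) : k * x⁻¹ * k⁻¹ = (k * x * k⁻¹)⁻¹ := by group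

theorem cjinj {x y : G} (e : k * x * k⁻¹ = k * y * k⁻¹) : x = y :=
  mul_left_cancel (mul_right_cancel e)

theorem cjsq {x y : G} (e : x * x = y) (k : G) : k * x * k⁻¹ * (k * x * k⁻¹) = k * y * k⁻¹ := by
  rw [conj_mul, e]

namespace P
variable (h : P S E ν)
include h

theorem sqz (ht : t ∈ h.T) (e : t * t = E (2 * ν) (2 * ν) K.o) :
    (t = E ν ν K.o ∨ t = (E ν ν K.o)⁻¹) ∨ t = E ν (-ν) K.o ∨ t = (E ν (-ν) K.o)⁻¹ := by
  obtain ⟨i, j, rfl⟩ := h.dT ht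
  simp only [h.ss, kk, and_true] at e
  rcases h.two' (i := i) (by linear_combination e.1) with rfl | rfl <;>
    rcases h.two' (i := j) (by linear_combination e.2) with e | e <;> simp [h.ss, kk, e]

theorem SPm : S ≤ Pm (E ν ν K.o) := fun g hg => by
  obtain ⟨i, j, κ, rfl⟩ := h.dec g hg
  cases κ <;> simp [mPm, h.ss, kk]

theorem sylA : IsSylowOf 2 (S ⊓ Cen1 (E ν ν K.o)) (⊤ ⊓ Cen1 (E ν ν K.o)) := by
  rw [top_inf_eq]
  exact h.syl.inf_of_le_normalizer le_top (h.SPm.trans (Pm_nor _))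

theorem cT (ht : t ∈ h.T) : h.T ≤ Cen1 t := fun x hx => by
  obtain ⟨i, j, rfl⟩ := h.dT ht
  obtain ⟨i', j', rfl⟩ := h.dT hx
  simp [h.ss, kk, add_comm]

theorem mo (i j : A) : E i j K.o ∈ h.T := h.mT.2 rfl

theorem ST : S ≤ Nor h.T := fun g hg => mnor fun t ht => by
  obtain ⟨i, j, κ, rfl⟩ := h.dec g hg
  obtain ⟨i', j', rfl⟩ := h.dT ht
  simp [h.ss, kk, h.mT]

theorem norT (e : ∀ t ∈ h.T, k * t * k⁻¹ ∈ S) : k ∈ Nor h.T :=
  mnor fun t ht => h.wc (e _ (h.mo _ _)) (e _ (h.mo _ _)) ht (e t ht)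

theorem ab1 : E ν (-ν) K.o ≠ E ν ν K.o := fun e => by
  simp only [h.ss, true_and, and_true] at e
  exact h.n2 (by linear_combination -e)

theorem ab2 : E ν (-ν) K.o ≠ (E ν ν K.o)⁻¹ := fun e => by
  simp only [h.ss, kk, and_true] at e
  exact h.n2 (by linear_combination e)

/-- the normalizer of the torus does not swap the two cyclic groups of order 4 -/
theorem nPm : Nor h.T ⊓ Cen1 (E (2 * ν) (2 * ν) K.o) ≤ Pm (E ν ν K.o) := by
  by_contra hn
  obtain ⟨g, hg, hg'⟩ := SetLike.not_le_iff_exists.1 hn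
  have key : ∀ x ∈ Nor h.T ⊓ Cen1 (E (2 * ν) (2 * ν) K.o), ∀ t ∈ h.T,
      t * t = E (2 * ν) (2 * ν) K.o → _ := fun x hx t ht e =>
    h.sqz (cmem hx.1 ht) ((cjsq e x).trans (c1'.1 hx.2))
  have := DD.rel2 (M := (Nor h.T ⊓ Cen1 (E (2 * ν) (2 * ν) K.o)) ⊓ Pm (E ν ν K.o)) inf_le_left hg
    (fun e => hg' e.2) fun x hx y hy h1 h2 => ⟨mul_mem hx hy, ?_⟩
  · exact (h.syl.of_le (le_inf h.ST h.Sz) le_top).not_dvd (this ▸ relIndex_dvd_of_le_left _
      (le_inf (le_inf h.ST h.Sz) h.SPm))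
  have e1 := (key x hx _ (h.mo _ _) h.aa).resolve_left fun e => h1 ⟨hx, e⟩
  have e2 := (key y hy _ (h.mo _ _) h.aa).resolve_left fun e => h2 ⟨hy, e⟩
  have e3 : x * E ν (-ν) K.o * x⁻¹ = E ν ν K.o ∨ x * E ν (-ν) K.o * x⁻¹ = (E ν ν K.o)⁻¹ := by
    refine (key x hx _ (h.mo _ _) h.bb).resolve_right ?_
    rintro (e | e) <;> rcases e1 with e1 | e1
    · exact h.ab1 (cjinj (e.trans e1.symm))
    · exact h.ab2 (cjinj (by rw [e, cjinv, e1, inv_inv]))
    · exact h.ab2 (cjinj (by rw [e, cjinv, e1]))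
    · exact h.ab1 (cjinj (e.trans e1.symm))
  show x * y ∈ Pm _
  rw [mPm, show x * y * E ν ν K.o * (x * y)⁻¹ = x * (y * E ν ν K.o * y⁻¹) * x⁻¹ by group]
  rcases e2 with e | e <;> rw [e]
  · exact e3
  · rw [cjinv]; rcases e3 with e | e <;> simp [e]

theorem nc : ¬ IsConj (E ν (-ν) K.o) (E ν ν K.o) := fun e => by
  obtain ⟨g, -, e1, e2⟩ := ext0 h.sylA (h.pg.to_le h.TS) (le_inf le_top (h.cT (h.mo _ _)))
    (cj_top.2 e)
  have := inv_mem (h.nPm ⟨h.norT fun t ht => (e2 t ht).1, c1'.2 (by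
    rw [← cjsq h.bb, e1, h.aa])⟩)
  rw [mPm, ← e1, show g⁻¹ * (g * E ν (-ν) K.o * g⁻¹) * g⁻¹⁻¹ = E ν (-ν) K.o by group, e1] at this
  exact this.elim h.ab1 h.ab2

theorem cja : IsConj (E ν ν K.o) (E ν ν K.o)⁻¹ := isConj_iff.2 ⟨E 0 0 K.r, by simp [h.ss, kk]⟩

theorem cjb : IsConj (E ν (-ν) K.o) (E ν (-ν) K.o)⁻¹ :=
  isConj_iff.2 ⟨E 0 0 K.r, by simp [h.ss, kk]⟩

theorem sqa (ht : t ∈ h.T) (e : t * t = E (2 * ν) (2 * ν) K.o) (c : IsConj (E ν ν K.o) t) :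
    t = E ν ν K.o ∨ t = (E ν ν K.o)⁻¹ :=
  (h.sqz ht e).resolve_right (by
    rintro (rfl | rfl)
    exacts [h.nc c.symm, h.nc (h.cjb.trans c.symm)])

theorem ex_conj [IsSimpleGroup G] :
    ∃ a ∈ S, a ≠ E (2 * ν) (2 * ν) K.o ∧ IsConj (E (2 * ν) (2 * ν) K.o) a := by
  by_contra hn
  push Not at hn
  have := H3.comm_of_isolated h.oz (H3.isolated_of_weaklyClosed (p := 2) ⟨1, by
    rw [pow_one, pow_two, h.zz]⟩ (h.syl.of_le h.Sz le_top) fun g hg => by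
      by_contra e; exact hn _ hg e (isConj_mk g _)) (E 1 0 K.o) (E 0 0 K.s)
  simp only [h.ss, kk] at this
  exact h.odd 0 (by linear_combination -this.1)

/-- if `z` is the square of an element commuting with a conjugate `v` of `z` -/
theorem sq_ext {c : G} (hc : c ∈ S) (cv : c ∈ Cen1 v) (e : c * c = E (2 * ν) (2 * ν) K.o)
    (ne : v ≠ E (2 * ν) (2 * ν) K.o) (hv : IsConj (E (2 * ν) (2 * ν) K.o) v) :
    ∃ k, k * v * k⁻¹ = E (2 * ν) (2 * ν) K.o ∧ k * c * k⁻¹ ∈ S ∧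
      k * E (2 * ν) (2 * ν) K.o * k⁻¹ = E (2 * ν) 0 K.o := by
  obtain ⟨k, e1, e2⟩ := DD.extS h.syl h.Sz hv
  have e3 := e2 c hc cv
  rcases h.invT' (cjsq e k ▸ h.sq e3) (iconj h.oz k) with e4 | e4 | e4
  · exact absurd (cjinj (e1.trans e4.symm)) ne
  · exact ⟨k, e1, e3, e4⟩
  · refine ⟨E 0 0 K.s * k, ?_, mem_of_eq (cmem (le_normalizer (h.mem 0 0 K.s)) e3) (by group), ?_⟩
    · calc _ = E 0 0 K.s * (k * v * k⁻¹) * (E 0 0 K.s)⁻¹ := by group
        _ = _ := by rw [e1, c1'.1 (h.Sz (h.mem 0 0 K.s))]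
    · calc _ = E 0 0 K.s * (k * E (2 * ν) (2 * ν) K.o * k⁻¹) * (E 0 0 K.s)⁻¹ := by group
        _ = _ := by rw [e4]; simp [h.ss, kk]

theorem zu [IsSimpleGroup G] : IsConj (E (2 * ν) (2 * ν) K.o) (E (2 * ν) 0 K.o) := by
  obtain ⟨v, hv, ne, c⟩ := h.ex_conj
  have o := DD.o2c c h.oz
  rcases h.invol hv (ii o) with e | ⟨i, rfl⟩ | ⟨i, j, rfl⟩ | ⟨i, rfl⟩
  · exact c.trans (h.invTc e o ne).symm
  · obtain ⟨k, -, -, e⟩ := h.sq_ext (h.mem _ _ _) (by simp [h.ss, kk, add_comm]) h.aa ne c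
    exact e ▸ isConj_mk _ _
  swap
  · obtain ⟨k, -, -, e⟩ := h.sq_ext (h.mem _ _ _) (by simp [h.ss, kk, add_comm]) h.bb ne c
    exact e ▸ isConj_mk _ _
  obtain ⟨k, e1, e2⟩ := DD.extS h.syl h.Sz c
  have e3 := h.cjz (e2 _ (h.mem (2 * ν) 0 K.o) (by simp [h.ss, kk, add_comm, h.nn])) (iconj h.ou k)
    fun e => by simpa [h.ss] using cjinj (e.trans e1.symm)
  rw [← e1, conj_mul] at e3
  refine (((isConj_mk k _).trans e3).trans (isConj_mk k _).symm |>.trans ?_ |>.trans c.symm).symm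
  exact isConj_iff.2 ⟨E (-ν) 0 K.o, by simp only [h.ss, kk, and_true]; constructor <;> ring⟩

theorem nidx [IsSimpleGroup G] (N : Subgroup G) (hN : N.Normal) : N.index ≠ 2 :=
  H5.Dich.no_index_two_of_simple (fun e => by
    have := e.is_comm.comm (E 1 0 K.o) (E 0 0 K.s)
    simp only [h.ss, kk] at this
    exact h.odd 0 (by linear_combination -this.1)) N hN

/-- every involution is conjugate to `z` or to `s` -/
theorem cls [IsSimpleGroup G] (o : orderOf t = 2) :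
    IsConj t (E (2 * ν) (2 * ν) K.o) ∨ IsConj t (E 0 0 K.s) := by
  obtain ⟨v, hv, c⟩ := DD.tt1 h.syl h.nidx (h.MS K.s) (h.relM (by simp)) (ii o)
  have o' := DD.o2c c o
  rcases h.invol (h.MS _ hv) (ii o') with e | ⟨i, rfl⟩ | ⟨i, j, rfl⟩ | ⟨i, rfl⟩
  · by_cases ne : v = E (2 * ν) (2 * ν) K.o
    · exact Or.inl (ne ▸ c)
    · exact Or.inl (c.trans ((h.invTc e o' ne).symm.trans h.zu.symm))
  · exact Or.inr (c.trans (h.cjs i ▸ isConj_mk _ _).symm)
  all_goals simp [h.mM] at hv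

theorem two_cls [IsSimpleGroup G] (hn : ¬ IsConj (E 0 0 K.s) (E (2 * ν) (2 * ν) K.o)) : ν = 1 := by
  refine h.big.resolve_right fun ⟨μ, e⟩ => ?_
  have c : IsConj (E 0 0 K.s) (E 0 0 K.p) := by
    simpa [sy, K.sw] using (h.symm.cls h.os).resolve_left (by rwa [h.symz])
  obtain ⟨k₁, k₂, e0, e1, e2⟩ := DD.ext2 h.syl c
  have m1 : k₁ * E ν ν K.o * k₁⁻¹ ∈ h.T := mem_of_eq (h.sq (e1 _ (h.mem μ μ K.o)
    (by simp [h.ss, kk]))) (by rw [conj_mul]; simp [h.ss, kk, e, two_mul])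
  have m2 : k₂ * E ν (-ν) K.o * k₂⁻¹ ∈ h.T := mem_of_eq (h.sq (e2 _ (h.mem μ (-μ) K.o)
    (by simp [h.ss, kk]))) (by rw [conj_mul]; simp [h.ss, kk, e, two_mul])
  have c1 := DD.c1j (k := k₁) (show E ν ν K.o ∈ Cen1 (E 0 0 K.s) by simp [h.ss, kk])
  have c2 := DD.c1j (k := k₂) (show E ν (-ν) K.o ∈ Cen1 (E 0 0 K.p) by simp [h.ss, kk])
  have o1 := iconj h.oz k₁
  have o2 := iconj h.oz k₂
  rw [← cjsq h.aa] at o1
  rw [← cjsq h.bb] at o2
  have d1 := isConj_mk k₁ (E ν ν K.o)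
  have d2 := isConj_mk k₂ (E ν (-ν) K.o)
  have t1 := h.invT' (mul_mem m1 m1) o1
  have t2 := h.invT' (mul_mem m2 m2) o2
  have o := iconj h.os k₁
  have hv := e1 _ (h.mem 0 0 K.s) (GW.c1.2 rfl)
  have cv := isConj_mk k₁ (E 0 0 K.s)
  rw [← e0] at c2
  obtain ⟨i, j, e3⟩ := h.dT m1
  obtain ⟨i', j', e4⟩ := h.dT m2
  rw [← e3] at c1 o1 d1 t1 m1
  rw [← e4] at c2 o2 d2 t2 m2
  generalize k₁ * E 0 0 K.s * k₁⁻¹ = v at c1 c2 o hv cv
  have n2 := h.n2
  rcases h.invol hv (ii o) with e | ⟨a, rfl⟩ | ⟨a, b, rfl⟩ | ⟨a, rfl⟩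
  · by_cases ne : v = E (2 * ν) (2 * ν) K.o
    · exact hn (ne ▸ cv)
    · exact hn (cv.trans ((h.invTc e o ne).symm.trans h.zu.symm))
  · simp only [h.ss, kk, and_true] at c2
    obtain rfl : i' = j' := by linear_combination c2.1
    simp only [h.ss, kk, and_true, and_self] at t2
    rcases h.two' (i := i') (by
      rcases t2 with e | e | e
      exacts [by linear_combination e, by linear_combination e.1, by linear_combination e.2])
      with rfl | rfl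
    · exact h.nc d2
    · exact h.nc (d2.trans (by simpa [h.ss, kk] using h.cja.symm))
  · simp only [h.ss, kk, and_true] at c1
    exact ine o1 (by
      simp only [h.ss, kk, and_true]; exact ⟨by linear_combination c1.1, by linear_combination c1.2⟩)
  · simp only [h.ss, kk, and_true] at c1 t1
    obtain rfl : j = -i := by linear_combination c1.1
    rcases h.two' (i := i) (by
      rcases t1 with e | e | e
      exacts [by linear_combination e.1, by linear_combination e.1,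
        by linear_combination -e.2 - h.n4]) with rfl | rfl
    · exact h.nc d1.symm
    · exact h.nc (IsConj.trans (by simpa [h.ss, kk] using h.cjb) d1.symm)

end P

end GA2
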