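import Cfsg.Agent.GA2.B
import Cfsg.Agent.H7.Frobenius

/-! Sylow 2-subgroups of type `G₂(q)`: fusion in the centralizer of the central involution. -/

set_option autoImplicit false
set_option linter.unusedSectionVars false
set_option linter.unusedVariables false

namespace GA2

open Cfsg Subgroup FT H4 GW MT
open H5 (IsSylowOf mem_of_eq im)

universe u

variable {G : Type u} [Group G] [Finite G] {A : Type} [CommRing A] {S D : Subgroup G}
  {E : A → A → K → G} {ν i j a b : A} {κ : K} {g k t v w : G}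

namespace P
variable (h : P S E ν)
include h

theorem exNu (zu : IsConj (E (2 * ν) (2 * ν) K.o) (E (2 * ν) 0 K.o)) :
    ∃ n ∈ Nor h.T, n * E (2 * ν) (2 * ν) K.o * n⁻¹ = E (2 * ν) 0 K.o ∧
      n * E (2 * ν) 0 K.o * n⁻¹ = E (2 * ν) (2 * ν) K.o := by
  obtain ⟨k, e1, e2⟩ := DD.extS h.syl h.Sz zu
  have n := h.norT fun t ht => e2 t (h.TS ht) (h.cT (h.mo _ _) ht)
  rcases h.invT' (cmem n (h.mo _ _)) (iconj h.oz k) with e | e | e
  · simpa [h.ss, h.n2] using cjinj (e.trans e1.symm)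
  · exact ⟨k, n, e, e1⟩
  · refine ⟨E 0 0 K.s * k, mul_mem (h.ST (h.mem _ _ _)) n, ?_, ?_⟩
    · calc _ = E 0 0 K.s * (k * E (2 * ν) (2 * ν) K.o * k⁻¹) * (E 0 0 K.s)⁻¹ := by group
        _ = _ := by rw [e]; simp [h.ss, kk]
    · calc _ = E 0 0 K.s * (k * E (2 * ν) 0 K.o * k⁻¹) * (E 0 0 K.s)⁻¹ := by group
        _ = _ := by rw [e1]; simp [h.ss, kk]

theorem squ (hg : g ∈ S) (e : g * g = E (2 * ν) 0 K.o) : g ∈ h.T := by
  obtain ⟨i, j, κ, rfl⟩ := h.dec g hg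
  cases κ <;> simp only [h.ss, kk, and_true] at e
  · exact h.mo _ _
  · exact absurd (by linear_combination e.2 - e.1) h.n2
  · exact absurd (by linear_combination -e.1) h.n2
  · exact absurd (by linear_combination -e.2 - e.1) h.n2

theorem exg (zu : IsConj (E (2 * ν) (2 * ν) K.o) (E (2 * ν) 0 K.o))
    (zs : IsConj (E (2 * ν) (2 * ν) K.o) (E 0 0 K.s)) :
    ∃ g ∈ Cen1 (E (2 * ν) (2 * ν) K.o), g ∈ Pm (E ν ν K.o) ∧
      g * E 0 0 K.s * g⁻¹ = E (2 * ν) 0 K.o := by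
  obtain ⟨n, hn, e1, e2⟩ := h.exNu zu
  obtain ⟨k, e3, e4, e5⟩ := h.sq_ext (h.mem _ _ _) (by simp [h.ss, kk]) h.aa (by simp [h.ss]) zs
  have e : ∀ x, n * k * x * (n * k)⁻¹ = n * (k * x * k⁻¹) * n⁻¹ := fun x => by group
  have e6 : n * k * E (2 * ν) (2 * ν) K.o * (n * k)⁻¹ = E (2 * ν) (2 * ν) K.o := by rw [e, e5, e2]
  exact ⟨n * k, c1'.2 e6, h.sqa (e _ ▸ cmem hn (h.squ e4 ((cjsq h.aa k).trans e5)))
    ((cjsq h.aa _).trans e6) (isConj_mk _ _), by rw [e, e3, e1]⟩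

theorem map {X : Type u} [Group X] [Finite X] {H : Subgroup G} (hH : S ≤ H) {f : H →* X}
    (hf : Function.Surjective f) (ho : Odd (Nat.card f.ker)) :
    P (im f S) (fun i j κ => f ⟨E i j κ, hH (h.mem i j κ)⟩) ν where
  syl := H5.im_self hf ▸ (h.syl.of_le hH le_top).im le_rfl
  mul := fun i j κ i' j' κ' => by
    rw [← map_mul]; exact congrArg f (Subtype.ext (h.mul _ _ _ _ _ _))
  eq := fun i j κ i' j' κ' => by
    rw [← h.eq]
    refine ⟨fun e => ?_, fun e => congrArg f (Subtype.ext e)⟩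
    have : (⟨E i j κ, hH (h.mem i j κ)⟩ * (⟨E i' j' κ', hH (h.mem _ _ _)⟩)⁻¹ : H) ∈
        S.subgroupOf H ⊓ f.ker := ⟨S.mul_mem (h.mem _ _ _) (S.inv_mem (h.mem _ _ _)),
      MonoidHom.mem_ker.2 (by rw [map_mul, map_inv, e, mul_inv_cancel])⟩
    rw [W.two_odd (H5.isPGroup_subgroupOf h.pg H) ho, mem_bot, mul_inv_eq_one] at this
    exact congrArg Subtype.val this
  mem := fun i j κ => H5.mem_im_of_mem _ (h.mem _ _ _)
  dec := fun g hg => by
    obtain ⟨x, hx, rfl⟩ := H5.mem_im.1 hg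
    obtain ⟨i, j, κ, e⟩ := h.dec x hx
    exact ⟨i, j, κ, congrArg f (Subtype.ext e)⟩
  n4 := h.n4
  n2 := h.n2
  two := h.two
  par := h.par
  odd := h.odd
  cyc := h.cyc
  big := h.big

theorem cu (e : E i j κ ∈ Cen1 (E (2 * ν) 0 K.o)) : κ = K.o ∨ κ = K.r := by
  cases κ <;> simp [h.ss, kk, h.n2, h.n2', h.nn] at e ⊢

variable (cz : ∀ g, g ∈ Cen1 (E (2 * ν) (2 * ν) K.o))
include cz

theorem fixU (hg : g ∈ Cen1 (E (2 * ν) 0 K.o)) (ht : t ∈ h.T) (e : t * t = 1) : g ∈ Cen1 t := by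
  obtain ⟨i, j, rfl⟩ := h.dT ht
  obtain ⟨rfl | rfl, rfl | rfl⟩ := h.invT e
  · rw [h.one]; exact c1.2 (by simp)
  · exact c1s.1 (mem_of_eq (mul_mem (c1s.1 hg) (c1s.1 (cz g))) (by
      simp only [h.ss, kk, and_true, zero_add]; linear_combination h.n4))
  exacts [hg, cz g]

theorem frob0 (hD : D ≤ S ⊓ Cen1 (E (2 * ν) 0 K.o)) (hg : g ∈ Cen1 (E (2 * ν) 0 K.o))
    (hn : g ∈ Nor D) (ho : Odd (orderOf g)) : g ∈ Cen D := by
  have dT : ∀ x ∈ D, x * x ≠ 1 → x ∈ h.T := fun x hx e => by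
    obtain ⟨i, j, κ, rfl⟩ := h.dec x (hD hx).1
    rcases h.cu (hD hx).2 with rfl | rfl
    exacts [h.mo _ _, absurd (h.rr i j) e]
  have key : ∀ n : ℕ, ∀ t ∈ D, t ∈ h.T → t ^ 2 ^ n = 1 → g * t * g⁻¹ = t := by
    intro n
    induction n with
    | zero => intro t _ _ e; rw [pow_zero, pow_one] at e; simp [e]
    | succ n ih =>
      intro t hd ht e
      by_cases e2 : t * t = 1
      · exact c1'.1 (h.fixU cz hg ht e2)
      have e3 := ih (t * t) (mul_mem hd hd) (mul_mem ht ht) (by rw [← pow_two, ← pow_mul, ← pow_succ', e])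
      have m := dT _ (cmem hn hd) (by rw [conj_mul, e3]; exact e2)
      have c := c1.1 (h.cT ht m)
      have e4 : t⁻¹ * (g * t * g⁻¹) * (t⁻¹ * (g * t * g⁻¹)) = 1 := by
        have e5 := (cjsq (x := t) rfl g).trans e3
        generalize g * t * g⁻¹ = y at c e5
        calc _ = t⁻¹ * (y * t) * t⁻¹ * t⁻¹ * y := by group
          _ = y * (t * t)⁻¹ * y := by rw [c]; group
          _ = 1 := by rw [← e5]; group
      have := fix_of_odd (y := t) (k := 1) ho (by rw [pow_one, pow_two, e4])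
        (c1.1 (h.fixU cz hg (mul_mem (inv_mem ht) m) e4)) (by group)
      exact (inv_mul_eq_one.1 this).symm
  have key' : ∀ t ∈ D, t ∈ h.T → g * t * g⁻¹ = t := fun t hd ht => by
    obtain ⟨n, e⟩ := exists_pow_pow_of_mem h.pg (h.TS ht)
    exact key n t hd ht e
  refine cen.2 fun x hx => ?_
  by_cases e : x ∈ h.T
  · exact c1.1 (c1'.2 (key' x hx e))
  have m : x⁻¹ * (g * x * g⁻¹) ∈ h.T := by
    have e1 : g * x * g⁻¹ ∉ h.T := fun e1 => e (by
      rw [cjinj (key' _ (cmem hn hx) e1)] at e1; exact e1)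
    obtain ⟨i, j, κ, e2⟩ := h.dec _ (hD (cmem hn hx)).1
    have c := (hD (cmem hn hx)).2
    obtain ⟨i', j', κ', rfl⟩ := h.dec x (hD hx).1
    rw [← e2] at c e1 ⊢
    rcases h.cu c with rfl | rfl <;> rcases h.cu (hD hx).2 with rfl | rfl <;>
      simp [h.ss, kk, h.mT] at e e1 ⊢
  obtain ⟨n, e1⟩ := exists_pow_pow_of_mem h.pg (h.TS m)
  have := fix_of_odd (y := x) ho e1 (c1.1 (c1'.2 (key' _ (mul_mem (inv_mem hx) (cmem hn hx)) m)))
    (by group)
  exact c1.1 (c1'.2 (inv_mul_eq_one.1 this).symm)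

theorem sylK : IsSylowOf 2 (S ⊓ Cen1 (E (2 * ν) 0 K.o)) (Cen1 (E (2 * ν) 0 K.o)) :=
  h.syl.inf_of_le_normalizer le_top fun g hg => mnor fun x hx => by
    have := h.fixU cz hx (cmem (h.ST (inv_mem hg)) (h.mo (2 * ν) 0)) (ii (iconj h.ou _))
    have := DD.c1j this g
    rwa [show g * (g⁻¹ * E (2 * ν) 0 K.o * g⁻¹⁻¹) * g⁻¹ = E (2 * ν) 0 K.o by group] at this

theorem frob : H7.FrobHyp 2 (Cen1 (E (2 * ν) 0 K.o)) := fun U hU g hg hc => by
  obtain ⟨k, hk, e⟩ := (h.sylK cz).exists_conj_le (hU.map (Cen1 _).subtype) (map_subtype_le U)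
  have := h.frob0 cz e (g := k * g * k⁻¹) (mul_mem (mul_mem hk g.2) (inv_mem hk)) (by
    rw [← conj_nor]; exact conj_mem_conjS (le_normalizer_map _ (mem_map_of_mem _ hg))) (by
    rw [H9.orderOf_conj, orderOf_coe]; exact odd_iff_cop.2 hc)
  rw [← conj_cen, conj_mem_conjS_iff] at this
  exact cen.2 fun x hx => Subtype.ext (cen.1 this _ (mem_map_of_mem _ hx))

theorem nK (hk : k ∈ Cen1 (E (2 * ν) 0 K.o)) : k * E 1 0 K.r * k⁻¹ ≠ E 0 1 K.r := fun e => by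
  have m : ∀ i j, E i j K.r ∈ Cen1 (E (2 * ν) 0 K.o) := fun i j => by simp [h.ss, kk, h.nn, add_comm]
  have := (h.sylK cz).subgroupOf le_rfl
  rw [subgroupOf_self] at this
  obtain ⟨⟨u, hu⟩, ⟨hu', -⟩, e1⟩ := (h.frob cz).fusion this (x := ⟨_, m 1 0⟩) (g := ⟨k, hk⟩)
    ⟨h.mem _ _ _, m 1 0⟩ (mem_subgroupOf.2 (mem_of_eq ⟨h.mem _ _ _, m 0 1⟩ e.symm))
  have e2 : E 0 1 K.r = u * E 1 0 K.r * u⁻¹ := e.symm.trans (congrArg Subtype.val e1)
  obtain ⟨i, j, κ, rfl⟩ := h.dec u hu'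
  rcases h.cu hu with rfl | rfl <;> simp only [h.ss, kk, and_true] at e2 <;>
    exact h.odd j (by linear_combination -e2.2)

omit cz in
theorem ex4 (hv : v ∈ h.R) (e : v * v = 1) : ∃ w ∈ S, w ∈ Cen1 v ∧ w * w ≠ 1 := by
  rcases h.invol (h.RS hv) e with e | ⟨i, rfl⟩ | ⟨i, j, rfl⟩ | ⟨i, rfl⟩
  · exact ⟨_, h.mem _ _ _, h.cT e (h.mo ν ν), h.aa ▸ ine h.oz⟩
  · exact ⟨_, h.mem ν ν K.o, by simp [h.ss, kk, add_comm], h.aa ▸ ine h.oz⟩
  · obtain ⟨c, e⟩ := h.mR.1 hv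
    refine ⟨_, h.mem (c - j + 2 * ν) (j - c) K.s, ?_, fun e => h.n2 ?_⟩
    · simp only [h.ss, kk, and_true]
      exact ⟨by linear_combination h.n4 - e, by linear_combination e⟩
    · simp only [h.ss, kk, and_true] at e
      linear_combination e.1
  · exact ⟨_, h.mem ν (-ν) K.o, by simp [h.ss, kk, add_comm], h.bb ▸ ine h.oz⟩

omit cz in
theorem exe {u : G} (hv : v ∈ S) (ov : orderOf v = 2) (hw : w ∈ S) (cw : w ∈ Cen1 v) (ww : w * w ≠ 1)
    (hu : u ∈ S) (ou : orderOf u = 2) (cu : u ∈ Cen1 v) (n1 : v ≠ E (2 * ν) (2 * ν) K.o)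
    (n2 : u ≠ E (2 * ν) (2 * ν) K.o) (n3 : u ≠ v) (n4 : u ≠ v * E (2 * ν) (2 * ν) K.o) :
    ∃ e ∈ Cen1 v, e * u * e⁻¹ = u * E (2 * ν) (2 * ν) K.o := by
  have m2 := h.n2
  have m2' := h.n2'
  have m4 := h.n4
  have nn := h.nn
  have fa : ∀ i j κ, κ = K.r ∨ κ = K.p →
      E ν ν K.o * E i j κ * (E ν ν K.o)⁻¹ = E i j κ * E (2 * ν) (2 * ν) K.o := by
    rintro i j _ (rfl | rfl) <;> simp only [h.ss, kk, and_true] <;>
      constructor <;> linear_combination m4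
  have fb : ∀ i j κ, κ = K.r ∨ κ = K.s →
      E ν (-ν) K.o * E i j κ * (E ν (-ν) K.o)⁻¹ = E i j κ * E (2 * ν) (2 * ν) K.o := by
    rintro i j _ (rfl | rfl) <;> simp only [h.ss, kk, and_true] <;>
      constructor <;> first | ring1 | linear_combination m4 | linear_combination -m4
  have fu : ∀ i j κ, κ = K.s ∨ κ = K.p →
      E (2 * ν) 0 K.o * E i j κ * (E (2 * ν) 0 K.o)⁻¹ = E i j κ * E (2 * ν) (2 * ν) K.o := by
    rintro i j _ (rfl | rfl) <;> simp only [h.ss, kk, and_true] <;>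
      constructor <;> first | ring1 | linear_combination m4 | linear_combination -m4
  have ev : ∀ i j, w ∈ Cen1 (E i j K.r) → ∃ c, i = j + 2 * c := fun i j cw => by
    obtain ⟨a, b, κ, rfl⟩ := h.dec w hw
    cases κ <;> simp only [h.ss, kk, and_true, ne_eq] at cw ww
    · exact absurd ⟨by linear_combination cw.1, by linear_combination cw.2⟩ ww
    · exact ⟨a, by linear_combination -cw.1⟩
    · simp at ww
    · exact ⟨a - j, by linear_combination -cw.1⟩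
  rcases h.invol hv (ii ov) with e | ⟨i, rfl⟩ | ⟨i, j, rfl⟩ | ⟨i, rfl⟩ <;>
    rcases h.invol hu (ii ou) with e' | ⟨a, rfl⟩ | ⟨a, b, rfl⟩ | ⟨a, rfl⟩
  · rcases (h.invT' e ov).resolve_left n1 with rfl | rfl <;>
      rcases (h.invT' e' ou).resolve_left n2 with rfl | rfl <;>
      simp [h.ss, kk, ← two_mul, ← mul_assoc, show (2 : A) * 2 = 4 by norm_num, m4] at n3 n4
  · rcases (h.invT' e ov).resolve_left n1 with rfl | rfl <;> simp [h.ss, kk, m2, m2'] at cu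
  · exact ⟨_, h.cT e (h.mo _ _), fa _ _ _ (Or.inl rfl)⟩
  · rcases (h.invT' e ov).resolve_left n1 with rfl | rfl <;> simp [h.ss, kk, m2, m2', nn] at cu
  · rcases (h.invT' e' ou).resolve_left n2 with rfl | rfl <;> simp [h.ss, kk, m2, m2'] at cu
  · simp only [h.ss, kk, and_true, ne_eq] at cu n3 n4
    rcases h.two (a - i) (by linear_combination cu.1) with e | e
    · exact absurd ⟨by linear_combination e, by linear_combination -e⟩ n3
    · exact absurd ⟨by linear_combination e, by linear_combination -e - m4⟩ n4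
  · exact ⟨_, by simp [h.ss, kk, add_comm], fa _ _ _ (Or.inl rfl)⟩
  · exact ⟨_, by simp [h.ss, kk, add_comm], fa _ _ _ (Or.inr rfl)⟩
  · obtain ⟨c, rfl⟩ := ev i j cw
    refine ⟨E c (-c) K.s, by simp only [h.ss, kk, and_true]; constructor <;> ring, ?_⟩
    rcases (h.invT' e' ou).resolve_left n2 with rfl | rfl <;> simp only [h.ss, kk, and_true] <;>
      constructor <;> first | ring1 | linear_combination -m4
  · exact ⟨_, by simp [h.ss, kk, add_comm, nn], fu _ _ _ (Or.inl rfl)⟩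
  · obtain ⟨c, rfl⟩ := ev i j cw
    refine ⟨E c (-c) K.s, by simp only [h.ss, kk, and_true]; constructor <;> ring, ?_⟩
    simp only [h.ss, kk, and_true, ne_eq] at cu n3 n4 ⊢
    rcases h.two (a - (j + 2 * c)) (by linear_combination cu.1) with e | e <;>
      rcases h.two (b - j) (by linear_combination cu.2) with e' | e'
    · exact absurd ⟨by linear_combination e, by linear_combination e'⟩ n3
    · exact ⟨by linear_combination e' - e + m4, by linear_combination e - e'⟩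
    · exact ⟨by linear_combination e' - e, by linear_combination e - e' + m4⟩
    · exact absurd ⟨by linear_combination e + m4, by linear_combination e' + m4⟩ n4
  · exact ⟨_, by simp [h.ss, kk, add_comm, nn], fu _ _ _ (Or.inr rfl)⟩
  · rcases (h.invT' e' ou).resolve_left n2 with rfl | rfl <;> simp [h.ss, kk, m2, m2', nn] at cu
  · exact ⟨_, by simp [h.ss, kk, add_comm], fb _ _ _ (Or.inr rfl)⟩
  · exact ⟨_, by simp [h.ss, kk, add_comm], fb _ _ _ (Or.inl rfl)⟩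
  · simp only [h.ss, kk, and_true, ne_eq, and_self] at cu n3 n4
    rcases h.two (a - i) (by linear_combination cu) with e | e
    · exact absurd (by linear_combination e) n3
    · exact absurd (by linear_combination e + m4) n4

theorem nRx (hv : v ∈ h.R) : ¬ IsConj (E 1 0 K.r) v := fun c => by
  have o := DD.o2c c (h.orr 1 0)
  obtain ⟨k₁, k₂, e0, e1, e2⟩ := DD.ext2 h.syl c
  obtain ⟨w, hw, cw, ww⟩ := h.ex4 hv (ii o)
  have c1 : E (2 * ν) 0 K.o ∈ Cen1 (E 1 0 K.r) := by simp [h.ss, kk, h.nn, add_comm]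
  have z := c1'.1 (cz k₁)
  obtain ⟨e, he, e3⟩ := h.exe (e1 _ (h.mem _ _ _) (GW.c1.2 rfl)) (iconj (h.orr 1 0) k₁) (e2 w hw cw)
    (e0 ▸ DD.c1j cw k₂) (by rw [conj_mul]; simpa using ww) (e1 _ (h.mem _ _ _) c1) (iconj h.ou k₁)
    (DD.c1j c1 k₁) (fun e => by simpa [h.ss] using cjinj (e.trans z.symm))
    (fun e => by simpa [h.ss, h.n2'] using cjinj (e.trans z.symm))
    (fun e => by simpa [h.ss] using cjinj e)
    (fun e => by rw [← z, conj_mul] at e; simpa [h.ss, kk] using cjinj e)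
  rw [← z, conj_mul] at e3
  refine h.nK cz (k := E 0 0 K.s * (k₁⁻¹ * e * k₁)) (c1'.2 ?_) ?_
  · calc _ = E 0 0 K.s * (k₁⁻¹ * (e * (k₁ * E (2 * ν) 0 K.o * k₁⁻¹) * e⁻¹) * k₁) * (E 0 0 K.s)⁻¹ := by
          group
      _ = E 0 0 K.s * (E (2 * ν) 0 K.o * E (2 * ν) (2 * ν) K.o) * (E 0 0 K.s)⁻¹ := by rw [e3]; group
      _ = _ := by
        simp only [h.ss, kk, and_true]; exact ⟨by ring, by linear_combination h.n4⟩
  · calc _ = E 0 0 K.s * (k₁⁻¹ * (e * (k₁ * E 1 0 K.r * k₁⁻¹) * e⁻¹) * k₁) * (E 0 0 K.s)⁻¹ := by group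
      _ = E 0 0 K.s * E 1 0 K.r * (E 0 0 K.s)⁻¹ := by rw [c1'.1 he]; group
      _ = _ := by simp [h.ss, kk]

theorem idx2 : ∃ N : Subgroup G, N.Normal ∧ N.index = 2 := by
  by_contra hn
  push Not at hn
  obtain ⟨v, hv, c⟩ := DD.tt1 h.syl hn h.RS h.relR (h.rr 1 0)
  exact h.nRx cz hv c

end P

end GA2
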