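import Cfsg.Agent.DD.F
import Cfsg.Agent.W.Main

/-! The product theorem for two four-groups. -/

set_option autoImplicit false
set_option linter.unusedSectionVars false
set_option linter.unusedVariables false

namespace GA2

open Cfsg Subgroup FT H4 GW MT DD
open H5 (IsSylowOf mem_of_eq)

universe u

variable {G : Type u} [Group G] [Finite G] {S A B K : Subgroup G} {r z r' z' a b n x y : G}

/-- `n` centralizes `A` and has no fixed points on `B` -/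
structure Bt (S A B : Subgroup G) (n : G) : Prop where
  nor : n ∈ Nor S
  fix : ∀ a ∈ A, n * a * n⁻¹ = a
  fpf : ∀ b ∈ B, n * b * n⁻¹ = b → b = 1
  tri : ∀ b ∈ B, n * b * n⁻¹ * (n * (n * b * n⁻¹) * n⁻¹) = b

structure P4 (S A B : Subgroup G) (r z r' z' : G) : Prop extends PS S A B r z r' z' where
  sm : r * r = 1
  sm' : r' * r' = 1
  hO : oddCore G = ⊥
  be : ∃ g ∈ Cen1 z, ∃ s, Rf B r' s ∧ g * s * g⁻¹ = z'
  al : ∃ g ∈ Cen1 z', ∃ s, Rf A r s ∧ g * s * g⁻¹ = z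

namespace P4
variable (h : P4 S A B r z r' z')
include h

theorem symm : P4 S B A r' z' r z := ⟨h.toPS.symm, h.sm', h.sm, h.hO, h.al, h.be⟩

theorem cA' (ha : a ∈ A) : S ≤ Cen1 a := h.dp.cS ha (h.dA.ab h.sm ha)

theorem cS (hx : x ∈ S) : S ≤ Cen1 x := by
  obtain ⟨a, ha, b, hb, rfl⟩ := h.dp.dec x hx
  exact fun y hy => c1s.1 (mul_mem (c1s.1 (h.cA' ha hy)) (c1s.1 (h.symm.cA' hb hy)))

theorem as : W.AS S ⊤ :=
  ⟨h.syl, le_centralizer_iff_isMulCommutative.1 fun x hx => cen_iff_le.2 (h.cS hx)⟩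

theorem nA (hn : n ∈ Nor S) (ha : a ∈ A) : n * a * n⁻¹ ∈ A := by
  by_cases a1 : a = 1
  · rw [a1, mul_one, mul_inv_cancel]; exact one_mem _
  · exact h.cj ha (MT.o2 (h.dA.e2 h.sm ha) a1) (cmem hn (h.dp.lA ha))

theorem exB : ∃ n, Bt S A B n := by
  obtain ⟨g, hg, s', hs', e⟩ := h.be
  obtain ⟨m, h1, h2, e1⟩ := (h.as.of_le h.Sz le_top).fuse (h.dp.lB hs'.1) hg
    (e ▸ h.dp.lB h.dB.zD)
  obtain ⟨n, h3, ho, e2⟩ := oddp h.syl h2
  have e3 : n * s' * n⁻¹ = z' := by rw [e2 _ (h.cS (h.dp.lB hs'.1)) (h.dp.lB hs'.1), e1, e]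
  have e4 : n * z * n⁻¹ = z := by rw [e2 _ h.Sz (h.dp.lA h.dA.zD), c1'.1 h1]
  have z1 := ine h.dB.oz
  have ne := h.dB.ne hs'
  have e5 : n * z' * n⁻¹ = s' * z' := by
    rcases h.dB.el h.sm' hs' (h.symm.nA h3 h.dB.zD) with e5 | e5 | e5 | e5
    · exact absurd (by simpa using e5) z1
    · exact absurd (cji (e3.trans e5.symm)) ne
    · exact absurd ((fix2 ho (by rw [e3, e5])).symm.trans e3) ne
    · exact e5
  have zz := ii h.dB.oz
  have ss := h.dB.sq _ hs'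
  have c := c1.1 (h.dB.cz hs'.1)
  have e6 : n * (s' * z') * n⁻¹ = s' := by rw [cjm, e3, e5, ← mul_assoc, ← c, mul_assoc, zz, mul_one]
  refine ⟨n, h3, fun a ha => ?_, fun b hb e7 => ?_, fun b hb => ?_⟩
  · by_cases a1 : a = 1
    · simp [a1]
    by_cases az : a = z
    · rw [az, e4]
    rcases h.dA.el2 h.sm h.dA.zD ha (ine h.dA.oz) a1 az (h.nA h3 ha) with e5 | e5 | e5 | e5
    · exact absurd (by simpa using e5) a1
    · exact absurd (cji (e5.trans e4.symm)) az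
    · exact e5
    · exact fix2 ho (by rw [e5, cjm, e4, e5, ← mul_assoc, ii h.dA.oz, one_mul])
  · rcases h.dB.el h.sm' hs' hb with rfl | rfl | rfl | rfl
    · rfl
    · exact absurd (mul_eq_right.1 (e5.symm.trans e7)) hs'.ne
    · exact absurd (e7.symm.trans e3) ne
    · exact absurd (mul_eq_left.1 (e7.symm.trans e6)) z1
  · rcases h.dB.el h.sm' hs' hb with rfl | rfl | rfl | rfl
    · simp
    · rw [e5, e6, c, mul_assoc, ss, mul_one]
    · rw [e3, e5, ← mul_assoc, ← c, mul_assoc, zz, mul_one]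
    · rw [e6, e3]

theorem lf (hK : PCompIn 2 ⊤ K) : W.LF S K := h.as.lf' hK.pqs (h.as.nor_comp hK)

theorem sub (hK : PCompIn 2 ⊤ K) (ha : a ∈ A) (a1 : a ≠ 1) (aK : a ∈ K) : S ⊓ K ≤ A := fun w hw => by
  by_cases w1 : w = 1
  · rw [w1]; exact one_mem _
  obtain ⟨Y, -, q⟩ := (h.lf hK).reg
  obtain ⟨y, hy, rfl⟩ := q.tr a ⟨h.dp.lA ha, aK⟩ w hw a1 w1
  exact h.nA (q.le hy) ha

theorem dich (hK : PCompIn 2 ⊤ K) : S ⊓ K ≤ A ∨ S ⊓ K ≤ B := by
  by_contra hn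
  rw [not_or] at hn
  obtain ⟨n, q⟩ := h.exB
  obtain ⟨Y, -, p⟩ := (h.lf hK).reg
  obtain ⟨w, hw, w', hw', w1, w1', ne⟩ := W.two_ne (h.lf hK).four (h.lf hK).sq
  obtain ⟨a, ha, b, hb, rfl⟩ := h.dp.dec w hw.1
  have b1 : b ≠ 1 := fun e => hn.1 (h.sub hK ha (by rwa [e, mul_one] at w1)
    (by simpa [e] using hw.2))
  have nB : ∀ b ∈ B, b ∈ K → b = 1 := fun b hb bK => by
    by_contra e; exact hn.2 (h.symm.sub hK hb e bK)
  have bb := h.symm.nA q.nor hb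
  have aa := h.dA.e2 h.sm ha
  have key : ∀ m : G, ∀ b' ∈ B, b * b' ≠ 1 → m * (a * b) * m⁻¹ = a * b' → a * b' ∈ W.CM K :=
    fun m b' hb' n1 e => by
      refine W.le_CM_of_ne hK (hK.conjS_of_mem (mem_top m)) (fun e' => n1 (nB _ (mul_mem hb hb') ?_))
        (e ▸ conj_mem_conjS hw.2)
      have := K.mul_mem hw.2 (e'.ge (e ▸ conj_mem_conjS hw.2))
      rwa [h.dp.mul ha hb, aa, one_mul] at this
  have b2 := h.dB.e2 h.sm' hb
  have k1 := key n _ bb (fun e => b1 (q.fpf b hb (by rw [eq_inv_of_mul_eq_one_right e, isq b2])))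
    (by rw [cjm, q.fix a ha])
  have k2 := key (n * n) _ (h.symm.nA q.nor bb) (fun e => b1 (by
    have := q.tri b hb
    rw [eq_inv_of_mul_eq_one_right e, isq b2, mul_eq_right] at this
    simpa using this)) (by
      rw [cjm, show n * n * a * (n * n)⁻¹ = n * (n * a * n⁻¹) * n⁻¹ by group, q.fix a ha, q.fix a ha]
      group)
  have k3 := mul_mem k1 k2
  rw [h.dp.mul ha bb, aa, one_mul, q.tri b hb] at k3
  obtain ⟨y, hy, e⟩ := p.tr _ hw w' hw' w1 w1'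
  have f1 := cen.1 (p.cen hy) _ ⟨h.dp.lB hb, k3⟩
  have f2 := c1'.1 (c1.2 (cen.1 (p.cen hy) _ ⟨mul_mem (h.dp.lA ha) (h.dp.lB bb), k1⟩))
  rw [cjm] at f2
  exact ne (by rw [← e, cjm, (h.dp.uniq (h.nA (p.le hy) ha) ha (h.symm.nA (p.le hy) bb) bb f2).1,
    c1'.1 (c1.2 f1)])

theorem zK (hK : PCompIn 2 ⊤ K) (e : S ⊓ K ≤ A) : z ∈ K := by
  obtain ⟨s, hs⟩ := h.dA.ex
  have := eq_of_le_of_card_ge e (by
    rw [h.dA.eqV h.sm hs, (h.dA.f4 hs).card_V]; exact (h.lf hK).four)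
  exact (this.ge h.dA.zD).2

theorem commK (hK : PCompIn 2 ⊤ K) (e : S ⊓ K ≤ A) (hx : IsConj z x) (hy : IsConj z' y) :
    x * y = y * x := by
  have zK := h.zK hK e
  have nK : ∀ g, g ∈ Nor K := fun g => by
    have hK' := hK.conjS_of_mem (mem_top g)
    refine mem_normalizer_iff_conjS.2 (Classical.byContradiction fun ne => ine h.dA.oz ?_)
    refine mem_bot.1 ((h.as.inf_B hK).le ⟨⟨h.dp.lA h.dA.zD, zK⟩, W.le_CM_of_ne hK hK' (Ne.symm ne)
      (h.zK hK' ((h.dich hK').resolve_right fun e' => ?_))⟩)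
    obtain ⟨k, hk, e1⟩ := (h.as.sn hK'.sn).conj_in (conj_mem_conjS zK) (ii (iconj h.dA.oz g))
    exact ine (iconj (iconj h.dA.oz g) k) (h.dp.dis _
      (h.cA _ e1.1 ((isConj_mk g z).trans (isConj_mk k _))) (e' e1))
  have nC : ∀ g, g ∈ Nor (W.CM K) := fun g => W.nCM K (nK g)
  obtain ⟨n, q⟩ := h.exB
  obtain ⟨s, hs, c, hc, e1⟩ := h.as.dec hK (h.dp.lB h.dB.zD)
  have bb := h.symm.nA q.nor h.dB.zD
  have m : z' * (n * z' * n⁻¹) ∈ W.CM K := by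
    have := mul_mem hc.2 (cmem (nC n) hc.2)
    rwa [eq_inv_mul_of_mul_eq e1, isq (h.dA.e2 h.sm (e hs)), cjm, q.fix s (e hs),
      h.dp.mul (e hs) h.dB.zD, h.dA.e2 h.sm (e hs), one_mul] at this
  have o : orderOf (z' * (n * z' * n⁻¹)) = 2 := MT.o2 (h.dB.e2 h.sm' (mul_mem h.dB.zD bb))
    fun e => ine h.dB.oz (q.fpf _ h.dB.zD (by rw [eq_inv_of_mul_eq_one_right e, iinv h.dB.oz]))
  obtain ⟨g, rfl⟩ := isConj_iff.1 hx
  obtain ⟨k, rfl⟩ := isConj_iff.1 ((h.fB _ (mul_mem h.dB.zD bb) o).symm.trans hy)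
  have : W.CM K ≤ Cen K := by
    rw [← H5.SS.comm_le_cen_iff, commutator_comm, eq_bot_iff, ← h.hO,
      ← show Oo (⊤ : Subgroup G) = oddCore G from pPrimeCoreIn_top 2]
    exact (W.com_CM le_rfl).trans hK.sn.pPrimeCoreIn_le
  exact (cen.1 (this (cmem (nC k) m)) _ (cmem (nK g) zK)).symm

theorem comm (hx : IsConj z x) (hy : IsConj z' y) : x * y = y * x := by
  by_cases e : ∃ K : Subgroup G, PCompIn 2 ⊤ K
  · obtain ⟨K, hK⟩ := e
    rcases h.dich hK with e | e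
    exacts [h.commK hK e hx hy, (h.symm.commK hK e hy hx).symm]
  have := h.as.le_of (M := Nor S) (by
    rw [show Oo (⊤ : Subgroup G) = oddCore G from pPrimeCoreIn_top 2, h.hO]; exact bot_le)
    (fun K hK => absurd ⟨K, hK⟩ e) inf_le_right
  obtain ⟨g, rfl⟩ := isConj_iff.1 hx
  obtain ⟨k, rfl⟩ := isConj_iff.1 hy
  exact h.as.cm (cmem (this (mem_top g)) (h.dp.lA h.dA.zD)) (cmem (this (mem_top k)) (h.dp.lB h.dB.zD))

end P4

end GA2
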