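import Cfsg.Agent.GA2.C
import Cfsg.Agent.GA2.D4

/-! The centralizer modulo its core: the two classes of elements of order 4 commute. -/

set_option autoImplicit false
set_option linter.unusedSectionVars false
set_option linter.unusedVariables false

namespace GA2

open Cfsg Subgroup FT H4 GW MT
open H5 (IsSylowOf mem_of_eq im)

universe u

variable {G : Type u} [Group G] [Finite G] {A : Type} [CommRing A] {S N : Subgroup G}
  {E : A → A → K → G} {ν i j a b : A} {κ : K} {g k t u v w x y : G}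

theorem sysy (E : A → A → K → G) : sy (sy E) = E := by
  funext i j κ; cases κ <;> simp [sy, K.sw]

namespace P
variable (h : P S E ν)
include h

theorem dQ (hg : g ∈ h.Q) : (∃ i, g = E i i K.o) ∨ ∃ j, g = E (j + 2 * ν) j K.p := by
  obtain ⟨i, j, κ, ⟨rfl, rfl⟩ | ⟨rfl, rfl⟩, rfl⟩ := h.dsub hg
  exacts [Or.inl ⟨_, rfl⟩, Or.inr ⟨_, rfl⟩]

theorem dQ' (hg : g ∈ h.symm.Q) : (∃ i, g = E i (-i) K.o) ∨ ∃ j, g = E (j + 2 * ν) (-j) K.s :=
  h.symm.dQ hg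

theorem mQ' : E i j κ ∈ h.symm.Q ↔ (κ = K.o ∧ i = -j) ∨ (κ = K.s ∧ i = -j + 2 * ν) := by
  rw [show E i j κ = sy E i (-j) κ.sw by cases κ <;> simp [sy, K.sw], h.symm.mQ]
  cases κ <;> simp [K.sw]

theorem symQ : h.symm.symm.Q = h.Q := by congr 1 <;> simp [sysy]

theorem qc (hx : x ∈ h.Q) (hy : y ∈ h.symm.Q) : x * y = y * x := by
  rcases h.dQ hx with ⟨i, rfl⟩ | ⟨i, rfl⟩ <;> rcases h.dQ' hy with ⟨j, rfl⟩ | ⟨j, rfl⟩ <;>
    simp only [h.ss, kk, and_true] <;> constructor <;> first | ring1 | linear_combination -h.n4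

theorem dR (hg : g ∈ h.R) : ∃ x ∈ h.Q, ∃ y ∈ h.symm.Q, x * y = g := by
  obtain ⟨i, j, κ, ⟨c, e⟩, rfl⟩ := h.dsub hg
  obtain rfl : j = 2 * c - i := by linear_combination e
  cases κ
  · exact ⟨E c c K.o, by simp [h.mQ], E (i - c) (c - i) K.o, by simp [h.mQ'], by
      simp only [h.ss, kk, and_true]; constructor <;> ring⟩
  · exact ⟨E (c - ν) (c - ν) K.o, by simp [h.mQ], E (i - c - ν + 2 * ν) (-(i - c - ν)) K.s,
      by simp [h.mQ'], by simp only [h.ss, kk, and_true]; constructor <;> ring⟩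
  · exact ⟨E (c + 2 * ν) c K.p, by simp [h.mQ], E (i - c - 2 * ν + 2 * ν) (-(i - c - 2 * ν)) K.s,
      by simp [h.mQ'], by simp only [h.ss, kk, and_true]; constructor <;> ring⟩
  · exact ⟨E (c - ν + 2 * ν) (c - ν) K.p, by simp [h.mQ], E (i - c - ν) (-(i - c - ν)) K.o,
      by simp [h.mQ'], by simp only [h.ss, kk, and_true]; constructor <;> ring⟩

theorem QR : h.Q ≤ h.R := fun g hg => by
  rcases h.dQ hg with ⟨i, rfl⟩ | ⟨i, rfl⟩
  exacts [h.mR.2 ⟨i, by ring⟩, h.mR.2 ⟨i + ν, by ring⟩]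

theorem QR' : h.symm.Q ≤ h.R := fun g hg => by
  rcases h.dQ' hg with ⟨i, rfl⟩ | ⟨i, rfl⟩
  exacts [h.mR.2 ⟨0, by ring⟩, h.mR.2 ⟨ν, by ring⟩]

theorem QQ (hx : x ∈ h.Q) (hy : x ∈ h.symm.Q) : x = 1 ∨ x = E (2 * ν) (2 * ν) K.o := by
  rcases h.dQ hx with ⟨i, rfl⟩ | ⟨i, rfl⟩ <;> simp only [h.mQ', kk, true_and, false_and, or_false,
    or_self] at hy
  rcases h.two i (by linear_combination hy) with rfl | rfl <;> simp [h.one]

theorem zQ : E (2 * ν) (2 * ν) K.o ∈ h.Q := by simp [h.mQ]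

theorem aQ : E ν ν K.o ∈ h.Q := by simp [h.mQ]

theorem jQ (j : A) : E (j + 2 * ν) j K.p ∈ h.Q := by simp [h.mQ]

theorem cQ (i : A) : E i i K.o ∈ h.Q := by simp [h.mQ]

theorem jj (j : A) : E (j + 2 * ν) j K.p * E (j + 2 * ν) j K.p = E (2 * ν) (2 * ν) K.o := by
  simp only [h.ss, kk, and_true]; exact ⟨by ring, by linear_combination -h.n4⟩

theorem cenQ (hg : g ∈ S) (c : g ∈ Cen h.symm.Q) : g ∈ h.Q := by
  obtain ⟨i, j, κ, rfl⟩ := h.dec g hg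
  have c1 := cen.1 c _ (h.symm.cQ 1)
  have c2 := cen.1 c _ (h.symm.jQ 0)
  cases κ <;> simp only [sy, K.sw, h.ss, kk, and_true, h.mQ, true_and, false_and, or_false,
    false_or] at c1 c2 ⊢
  · linear_combination -c2.2
  · exact h.two0 (by linear_combination -c1.1)
  · exact h.two0 (by linear_combination -c1.1)
  · linear_combination c2.1

theorem Qsq (hu : u ∈ h.Q) (e : u * u = 1) : u = 1 ∨ u = E (2 * ν) (2 * ν) K.o := by
  rcases h.dQ hu with ⟨i, rfl⟩ | ⟨i, rfl⟩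
  · rcases (h.invT e).1 with rfl | rfl <;> simp [h.one]
  · exact absurd ((h.jj i).symm.trans e) (ine h.oz)

theorem sqQ (hu : u ∈ S) (e : u * u = E (2 * ν) (2 * ν) K.o) : u ∈ h.Q ∨ u ∈ h.symm.Q := by
  obtain ⟨i, j, κ, rfl⟩ := h.dec u hu
  cases κ
  · rcases h.sqz (h.mo _ _) e with (e | e) | e | e <;> rw [e]
    exacts [Or.inl h.aQ, Or.inl (inv_mem h.aQ), Or.inr h.symm.aQ, Or.inr (inv_mem h.symm.aQ)]
  all_goals simp only [h.ss, kk, and_true, h.mQ, h.mQ', true_and, false_and, or_false,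
    false_or] at e ⊢
  · linear_combination e.1
  · exact h.n2 (by linear_combination -e.1)
  · linear_combination e.1

theorem SQ : S ≤ Nor h.Q := fun g hg => mnor fun x hx => by
  obtain ⟨a, b, κ, rfl⟩ := h.dec g hg
  rcases h.dQ hx with ⟨i, rfl⟩ | ⟨i, rfl⟩ <;> cases κ <;>
    simp only [h.ss, kk, h.mQ, true_and, false_and, or_false, false_or] <;>
    first | ring1 | linear_combination -h.n4

theorem zp (i : A) : E i i K.o ∈ zpowers (E 1 1 K.o) := by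
  obtain ⟨n, rfl⟩ := h.cyc i
  refine ⟨n, ?_⟩
  induction n using Int.induction_on with
  | zero => simp [h.one]
  | succ n ih => simp only at ih ⊢; rw [zpow_add_one, ih]; simp [h.ss, kk]
  | pred n ih => simp only at ih ⊢; rw [zpow_sub_one, ih]; simp [h.ss, kk, sub_eq_add_neg]

theorem zp' (hx : x ∈ zpowers (E 1 1 K.o)) : ∃ i, x = E i i K.o := by
  rcases h.dQ (zpowers_le.2 (h.cQ 1) hx) with e | ⟨i, rfl⟩
  · exact e
  · simpa [h.mT] using zpowers_le.2 (h.mo 1 1) hx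

theorem az : E ν ν K.o * E (2 * ν) (2 * ν) K.o = (E ν ν K.o)⁻¹ := by
  simp only [h.ss, kk, and_true, and_self]; linear_combination h.n4

end P

theorem mem_nor_zp (e : y * x * y⁻¹ ∈ zpowers x) : y ∈ Nor (zpowers x) := mnor fun w hw => by
  obtain ⟨n, rfl⟩ := mem_zpowers_iff.1 hw
  rw [← conj_zpow]; exact zpow_mem e n

theorem mzp2 {z : G} (zz : z * z = 1) : x ∈ zpowers z ↔ x = 1 ∨ x = z :=
  ⟨mem_zp2 zz, by rintro (rfl | rfl); exacts [one_mem _, mem_zpowers _]⟩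

/-- the central setting -/
structure Z (S : Subgroup G) (E : A → A → K → G) (ν : A) : Prop extends P S E ν where
  cz : ∀ g, g ∈ Cen1 (E (2 * ν) (2 * ν) K.o)
  hO : oddCore G = ⊥
  g1 : ∃ g ∈ Pm (E ν ν K.o), g * E 0 0 K.s * g⁻¹ = E (2 * ν) 0 K.o
  g2 : ∃ g ∈ Pm (E ν (-ν) K.o), g * E 0 0 K.p * g⁻¹ = E (2 * ν) 0 K.o

namespace Z
variable (h : Z S E ν)
include h

theorem symm : Z S (sy E) ν :=
  ⟨h.toP.symm, by rw [h.symz]; exact h.cz, h.hO, by simpa [sy, K.sw] using h.g2,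
    by simpa [sy, K.sw] using h.g1⟩

theorem exg : ∃ g ∈ Pm (E ν (-ν) K.o), g * E (ν + 2 * ν) ν K.p * g⁻¹ = E ν ν K.o ∨
    g * E (ν + 2 * ν) ν K.p * g⁻¹ = (E ν ν K.o)⁻¹ := by
  obtain ⟨g, hg, e⟩ := h.g2
  refine ⟨g, hg, ?_⟩
  rw [show E (ν + 2 * ν) ν K.p = (E ν (-ν) K.o)⁻¹ * E 0 0 K.p by
    simp only [h.ss, kk, and_true]; exact ⟨by linear_combination h.n4, by ring⟩, DD.cjm, e, cjinv]
  rcases mPm.1 hg with e | e <;> rw [e] <;> simp only [h.ss, kk, and_true]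
  · exact Or.inl ⟨by ring, by ring⟩
  · exact Or.inr ⟨by linear_combination h.n4, by ring⟩

theorem fq (hu : u ∈ h.Q) (e : u * u = E (2 * ν) (2 * ν) K.o) : IsConj (E ν ν K.o) u := by
  rcases h.dQ hu with ⟨i, rfl⟩ | ⟨i, rfl⟩
  · simp only [h.ss, kk, and_true, and_self] at e
    rcases h.two' (i := i) (by linear_combination e) with rfl | rfl
    exacts [IsConj.refl _, by simpa [h.ss, kk] using h.cja]
  · obtain ⟨g, -, e⟩ := h.exg
    refine IsConj.trans (b := E (ν + 2 * ν) ν K.p) ?_ (isConj_iff.2 ⟨E (i - ν) 0 K.o, by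
      simp only [h.ss, kk, and_true]; constructor <;> ring⟩)
    rcases e with e | e
    exacts [(DD.cje e).symm, h.cja.trans (DD.cje e).symm]

theorem csq (c : IsConj (E ν ν K.o) u) : u * u = E (2 * ν) (2 * ν) K.o := by
  obtain ⟨g, rfl⟩ := isConj_iff.1 c
  rw [cjsq h.aa, c1'.1 (h.cz g)]

theorem cq (hu : u ∈ S) (c : IsConj (E ν ν K.o) u) : u ∈ h.Q :=
  (h.sqQ hu (h.csq c)).resolve_right fun e =>
    h.nc ((h.symm.fq e (by rw [h.symz]; exact h.csq c)).trans c.symm)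

theorem QN [hN : N.Normal] (h2 : N.index = 2) : h.Q ≤ N := by
  have key : ∀ u, IsConj (E ν ν K.o) u → (u ∈ N ↔ E ν ν K.o ∈ N) := fun u c => by
    obtain ⟨g, rfl⟩ := isConj_iff.1 c
    exact ⟨fun e => by simpa [mul_assoc] using hN.conj_mem' _ e g, fun e => hN.conj_mem _ e g⟩
  have k1 := fun j => key _ (h.fq (h.jQ j) (h.jj j))
  have a : E ν ν K.o ∈ N := by
    have := (mul_mem_iff_of_index_two h2).2 (k1 0).symm
    rw [← k1 ν]
    exact mem_of_eq this (by simp only [h.ss, kk, and_true]; constructor <;> ring)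
  intro g hg
  rcases h.dQ hg with ⟨i, rfl⟩ | ⟨i, rfl⟩
  · exact mem_of_eq (mul_mem ((k1 i).2 a) (inv_mem ((k1 0).2 a))) (by
      simp only [h.ss, kk, and_true]; exact ⟨by ring, by ring⟩)
  · exact (k1 i).2 a

theorem RN [hN : N.Normal] (h2 : N.index = 2) : h.R ≤ N := fun g hg => by
  obtain ⟨x, hx, y, hy, rfl⟩ := h.dR hg
  exact mul_mem (h.QN h2 hx) (h.symm.QN h2 hy)

theorem SN' [hN : N.Normal] (h2 : N.index = 2) (hg : g ∈ S) (e : g ∈ N) : g ∈ h.R := by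
  by_contra e1
  have : S ≤ N := fun x hx => by
    by_cases e2 : x ∈ h.R
    · exact h.RN h2 e2
    · exact (mul_mem_cancel_right e).1 (h.RN h2 (h.mulR hx hg e2 e1))
  have e3 := h.syl.not_dvd
  rw [relIndex_top_right] at e3
  exact e3 (h2 ▸ index_dvd_of_le this)

theorem xN [hN : N.Normal] (h2 : N.index = 2) : E 1 0 K.o ∉ N := fun e =>
  h.xR (h.SN' h2 (h.mem _ _ _) e)

theorem cjN [hN : N.Normal] (h2 : N.index = 2) (c : IsConj (E ν ν K.o) u) :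
    ∃ g ∈ N, g * E ν ν K.o * g⁻¹ = u := by
  obtain ⟨g, rfl⟩ := isConj_iff.1 c
  by_cases e : g ∈ N
  · exact ⟨g, e, rfl⟩
  · refine ⟨g * E 1 0 K.o, (mul_mem_iff_of_index_two h2).2 (by simp [e, h.xN h2]), ?_⟩
    calc _ = g * (E 1 0 K.o * E ν ν K.o * (E 1 0 K.o)⁻¹) * g⁻¹ := by group
      _ = _ := by rw [c1'.1 (h.cT (h.mo _ _) (h.mo _ _))]

section
variable [hN : N.Normal] (h2 : N.index = 2) {X : Type u} [Group X] [Finite X] {f : N →* X}
  (hk : f.ker = (zpowers (E (2 * ν) (2 * ν) K.o)).subgroupOf N)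
include h2 hk

theorem f1 {x : N} : f x = 1 ↔ (x : G) = 1 ∨ (x : G) = E (2 * ν) (2 * ν) K.o := by
  rw [H5.map_eq_one_iff_of_ker hk, mzp2 h.zz]

theorem feq {x y : N} (e : f x = f y) : (x : G) = y ∨ (x : G) = y * E (2 * ν) (2 * ν) K.o := by
  have := (h.f1 h2 hk (x := y⁻¹ * x)).1 (by rw [map_mul, map_inv, e, inv_mul_cancel])
  simpa [inv_mul_eq_one, inv_mul_eq_iff_eq_mul, eq_comm] using this

theorem dh : DD.Dh (im f h.Q) (f ⟨E 1 1 K.o, h.QN h2 (h.cQ 1)⟩) (f ⟨E ν ν K.o, h.QN h2 h.aQ⟩) := by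
  have z : ∀ i, f ⟨E i i K.o, h.QN h2 (h.cQ i)⟩ ∈ zpowers (f ⟨E 1 1 K.o, h.QN h2 (h.cQ 1)⟩) :=
    fun i => H5.im_zpowers (f := f) _ ▸ H5.mem_im_of_mem _ (h.zp i)
  have d : ∀ x, DD.Rf (im f h.Q) (f ⟨E 1 1 K.o, h.QN h2 (h.cQ 1)⟩) x →
      ∃ j, x = f ⟨_, h.QN h2 (h.jQ j)⟩ := fun x hx => by
    obtain ⟨⟨y, hy⟩, m, rfl⟩ := H5.mem_im.1 hx.1
    rcases h.dQ m with ⟨i, rfl⟩ | ⟨i, rfl⟩
    exacts [absurd (z i) hx.2, ⟨i, rfl⟩]
  refine ⟨⟨H5.mem_im_of_mem _ (h.cQ 1), fun x hx => ?_, fun x y hx hy => ?_,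
    f ⟨_, h.QN h2 (h.jQ 0)⟩, H5.mem_im_of_mem _ (h.jQ 0), fun e => ?_⟩, z ν, MT.o2 ?_ fun e => ?_⟩
  · obtain ⟨j, rfl⟩ := d x hx
    rw [← map_mul, h.f1 h2 hk]; exact Or.inr (h.jj j)
  · obtain ⟨i, rfl⟩ := d x hx
    obtain ⟨j, rfl⟩ := d y hy
    rw [← map_mul]
    exact mem_of_eq (z (i - j + 2 * ν)) (congrArg f (Subtype.ext (by
      simp only [coe_mul, h.ss, kk, and_true]; exact ⟨by ring, by linear_combination h.n4⟩)))
  · rw [← H5.im_zpowers] at e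
    obtain ⟨y, hy, e⟩ := H5.mem_im.1 e
    obtain ⟨i, e1⟩ := h.zp' hy
    simpa [e1, h.ss, kk] using h.feq h2 hk e
  · rw [← map_mul, h.f1 h2 hk]; exact Or.inr h.aa
  · rcases (h.f1 h2 hk).1 e with e | e <;> simp only [h.ss, and_true, and_self] at e
    · exact h.n2 (by rw [e, mul_zero])
    · exact h.n2 (by linear_combination -2 * e)

theorem lift (hf : Function.Surjective f) {x : N} (e : IsConj (f ⟨E ν ν K.o, h.QN h2 h.aQ⟩) (f x)) :
    IsConj (E ν ν K.o) (x : G) := by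
  obtain ⟨g, e⟩ := isConj_iff.1 e
  obtain ⟨g, rfl⟩ := hf g
  rw [← map_inv, ← map_mul, ← map_mul] at e
  rcases h.feq h2 hk e.symm with e | e <;> rw [e]
  · exact isConj_mk _ _
  · refine h.cja.trans (isConj_iff.2 ⟨g, ?_⟩)
    rw [← h.az, DD.cjm, c1'.1 (h.cz _)]; rfl

omit hk in
theorem down {x : N} (e : IsConj (E ν ν K.o) (x : G)) :
    IsConj (f ⟨E ν ν K.o, h.QN h2 h.aQ⟩) (f x) := by
  obtain ⟨g, hg, e⟩ := h.cjN h2 e
  refine isConj_iff.2 ⟨f ⟨g, hg⟩, ?_⟩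
  rw [← map_inv, ← map_mul, ← map_mul]
  exact congrArg f (Subtype.ext e)

theorem cA (hf : Function.Surjective f) (x : X) (hx : x ∈ im f h.R)
    (e : IsConj (f ⟨E ν ν K.o, h.QN h2 h.aQ⟩) x) : x ∈ im f h.Q := by
  obtain ⟨x, m, rfl⟩ := H5.mem_im.1 hx
  exact H5.mem_im.2 ⟨x, h.cq (h.RS m) (h.lift h2 hk hf e), rfl⟩

theorem fA (x : X) (hx : x ∈ im f h.Q) (o : orderOf x = 2) :
    IsConj (f ⟨E ν ν K.o, h.QN h2 h.aQ⟩) x := by
  obtain ⟨x, m, rfl⟩ := H5.mem_im.1 hx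
  have := ii o
  rw [← map_mul, h.f1 h2 hk] at this
  exact h.down h2 (h.fq m (this.resolve_left fun e => ine o ((h.f1 h2 hk).2 (h.Qsq m e))))

theorem ps (hf : Function.Surjective f) : DD.PS (im f h.R) (im f h.Q) (im f h.symm.Q)
    (f ⟨E 1 1 K.o, h.QN h2 (h.cQ 1)⟩) (f ⟨E ν ν K.o, h.QN h2 h.aQ⟩)
    (f ⟨sy E 1 1 K.o, h.symm.QN h2 (h.symm.cQ 1)⟩) (f ⟨sy E ν ν K.o, h.symm.QN h2 h.symm.aQ⟩) := by
  have hk' : f.ker = (zpowers (sy E (2 * ν) (2 * ν) K.o)).subgroupOf N := by rwa [h.symz]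
  have eR : h.symm.R = h.R := le_antisymm (fun g hg => h.SN' h2 (h.symm.RS hg) (h.symm.RN h2 hg))
    fun g hg => h.symm.SN' h2 (h.RS hg) (h.RN h2 hg)
  refine ⟨?_, ⟨H5.im_mono h.QR, H5.im_mono h.QR', ?_, ?_, ?_⟩, h.dh h2 hk, h.symm.dh h2 hk',
    h.cA h2 hk hf, eR ▸ h.symm.cA h2 hk' hf, h.fA h2 hk, h.symm.fA h2 hk'⟩
  · have := h.syl.inf_of_le_normalizer (N := N) le_top (le_top.trans (normalizer_eq_top _).ge)
    rw [le_antisymm (fun g hg => h.SN' h2 hg.1 hg.2) (le_inf h.RS (h.RN h2))] at this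
    exact H5.im_self hf ▸ this.im le_rfl
  · rintro _ ⟨x, hx, rfl⟩ _ ⟨y, hy, rfl⟩
    rw [← map_mul, ← map_mul]
    exact congrArg f (Subtype.ext (h.qc hx hy))
  · rintro _ ⟨x, hx, rfl⟩ ⟨y, hy, e⟩
    refine (h.f1 h2 hk).2 (h.QQ hx ?_)
    rcases h.feq h2 hk e.symm with e | e <;> rw [e]
    exacts [hy, mul_mem hy (h.symz ▸ h.symm.zQ)]
  · rintro _ ⟨x, hx, rfl⟩
    obtain ⟨a, ha, b, hb, e⟩ := h.dR hx
    exact ⟨_, H5.mem_im_of_mem (h.QN h2 ha) ha, _, H5.mem_im_of_mem (h.symm.QN h2 hb) hb, by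
      rw [← map_mul]; exact congrArg f (Subtype.ext e)⟩

theorem al (e : ν = 1) : ∃ g ∈ Cen1 (f ⟨sy E ν ν K.o, h.symm.QN h2 h.symm.aQ⟩), ∃ s,
    DD.Rf (im f h.Q) (f ⟨E 1 1 K.o, h.QN h2 (h.cQ 1)⟩) s ∧
      g * s * g⁻¹ = f ⟨E ν ν K.o, h.QN h2 h.aQ⟩ := by
  obtain ⟨g, hg, e1⟩ := h.exg
  obtain ⟨g, m, hg, e1⟩ : ∃ g ∈ N, g ∈ Pm (E ν (-ν) K.o) ∧
      (g * E (ν + 2 * ν) ν K.p * g⁻¹ = E ν ν K.o ∨
        g * E (ν + 2 * ν) ν K.p * g⁻¹ = (E ν ν K.o)⁻¹) := by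
    by_cases m : g ∈ N
    · exact ⟨g, m, hg, e1⟩
    refine ⟨E 1 0 K.o * g, (mul_mem_iff_of_index_two h2).2 (by simp [m, h.xN h2]),
      mul_mem (cen_le_Pm _ (h.cT (h.mo _ _) (h.mo _ _))) hg, ?_⟩
    rw [show E 1 0 K.o * g * E (ν + 2 * ν) ν K.p * (E 1 0 K.o * g)⁻¹ =
      E 1 0 K.o * (g * E (ν + 2 * ν) ν K.p * g⁻¹) * (E 1 0 K.o)⁻¹ by group]
    rcases e1 with e1 | e1 <;> rw [e1] <;> simp [h.ss, kk]
  have d := h.dh h2 hk
  have d' := h.symm.dh h2 (f := f) (by rwa [h.symz])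
  refine ⟨f ⟨g, m⟩, c1'.2 ?_, f ⟨_, h.QN h2 (h.jQ ν)⟩, ⟨H5.mem_im_of_mem _ (h.jQ ν), fun e => ?_⟩, ?_⟩
  · rw [← map_inv, ← map_mul, ← map_mul]
    rcases mPm.1 hg with e | e
    · exact congrArg f (Subtype.ext e)
    · rw [← iinv d'.oz, ← map_inv]; exact congrArg f (Subtype.ext e)
  · rw [← H5.im_zpowers] at e
    obtain ⟨y, hy, e⟩ := H5.mem_im.1 e
    obtain ⟨i, e1⟩ := h.zp' hy
    simpa [e1, h.ss, kk] using h.feq h2 hk e
  · rw [← map_inv, ← map_mul, ← map_mul]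
    rcases e1 with e | e
    · exact congrArg f (Subtype.ext e)
    · rw [← iinv d.oz, ← map_inv]; exact congrArg f (Subtype.ext e)

end

theorem nzp (Y : Subgroup G) : Y ≤ Nor (zpowers (E (2 * ν) (2 * ν) K.o)) :=
  GW.nzp fun g _ => h.cz g

theorem Oo_eq [hN : N.Normal] : Oo N = ⊥ := eq_bot_iff.2 (by
  rw [← h.hO, ← show Oo (⊤ : Subgroup G) = oddCore G from pPrimeCoreIn_top 2]
  exact (SN.of_normal le_top (le_top.trans (normalizer_eq_top _).ge)).pPrimeCoreIn_le)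

theorem comm (hx : IsConj (E ν ν K.o) x) (hy : IsConj (E ν (-ν) K.o) y) : x * y = y * x := by
  obtain ⟨N, hN, h2⟩ := h.idx2 h.cz
  obtain ⟨X, _, _, f, hf, hk⟩ := H5.exists_hom_ker_eq (h.nzp N)
  have hk' : f.ker = (zpowers (sy E (2 * ν) (2 * ν) K.o)).subgroupOf N := by rwa [h.symz]
  have p := h.ps h2 hk hf
  have hO : oddCore X = ⊥ := core_central f hf (pPrimeCoreIn_eq_bot_iff.1 h.Oo_eq)
    (z := ⟨_, h.QN h2 h.zQ⟩) (fun g => Subtype.ext (c1.1 (h.cz g))) (by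
      rw [hk]; ext g; simp only [mem_subgroupOf, mzp2 h.zz, Subtype.ext_iff, coe_one,
        mzp2 (z := (⟨_, h.QN h2 h.zQ⟩ : N)) (Subtype.ext h.zz)])
  have xN : x ∈ N := by obtain ⟨g, rfl⟩ := isConj_iff.1 hx; exact hN.conj_mem _ (h.QN h2 h.aQ) g
  have yN : y ∈ N := by
    obtain ⟨g, rfl⟩ := isConj_iff.1 hy; exact hN.conj_mem _ (h.symm.QN h2 h.symm.aQ) g
  have c : f ⟨x, xN⟩ * f ⟨y, yN⟩ = f ⟨y, yN⟩ * f ⟨x, xN⟩ := by
    rcases h.big with e | ⟨μ, e⟩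
    · refine P4.comm ⟨p, ?_, ?_, hO, ?_, h.al h2 hk e⟩ (h.down h2 hx) (h.symm.down h2 hy)
      · rw [← map_mul, h.f1 h2 hk]; right; subst e; exact h.aa
      · rw [← map_mul, h.symm.f1 h2 hk']; right; subst e; exact h.symm.aa
      · have := h.symm.al h2 hk' e
        simpa only [sysy] using this
    · refine p.comm hO (fun e1 => ?_) (h.down h2 hx) (h.symm.down h2 hy)
      rw [← map_mul, h.f1 h2 hk] at e1
      simp only [coe_mul, h.ss, kk, and_true, and_self] at e1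
      rcases e1 with e1 | e1
      · exact h.two0 (by linear_combination e1)
      · rcases h.two' (i := 1) (by linear_combination e1) with e2 | e2
        exacts [h.odd μ (by linear_combination -e2 - e), h.odd (-μ) (by linear_combination e - e2)]
  rw [← map_mul, ← map_mul] at c
  have xx := h.csq hx
  have yy : y * y = _ := (h.symm.csq hy).trans h.symz
  have o : x ^ 2 ^ 2 = 1 := by rw [show 2 ^ 2 = 2 * 2 by rfl, pow_mul, pow_two, pow_two, xx, h.zz]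
  have o' : y ^ 2 ^ 2 = 1 := by rw [show 2 ^ 2 = 2 * 2 by rfl, pow_mul, pow_two, pow_two, yy, h.zz]
  have n : zpowers y ≤ Nor (zpowers x) := zpowers_le.2 (mem_nor_zp (by
    rcases h.feq h2 hk c.symm with e | e <;> simp only [coe_mul] at e
    · rw [e, mul_inv_cancel_right]; exact mem_zpowers x
    · rw [e, mul_assoc x, c1.1 (h.cz y), ← mul_assoc, mul_inv_cancel_right, ← xx]
      exact mul_mem (mem_zpowers x) (mul_mem (mem_zpowers x) (mem_zpowers x))))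
  obtain ⟨k, -, e⟩ := h.syl.exists_conj_le (IsPGroup.to_sup_of_normal_left'
    (isPGroup_zpowers_of_pow o) (isPGroup_zpowers_of_pow o') n) le_top
  have := h.qc (h.cq (e (conj_mem_conjS (mem_sup_left (mem_zpowers x)))) (hx.trans (isConj_mk k x)))
    (h.symm.cq (e (conj_mem_conjS (mem_sup_right (mem_zpowers y)))) (hy.trans (isConj_mk k y)))
  rw [conj_mul, conj_mul] at this
  exact cjinj this

end Z

end GA2
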