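import Cfsg.Agent.GA2.D
import Cfsg.Agent.GW.Cv2
import Cfsg.Agent.TW.Trf
import Cfsg.Agent.H6.FF3

/-! Outer automorphisms of `PSL(2, q)` commute; recognition of `SL(2, 3)`. -/

set_option autoImplicit false
set_option linter.unusedSectionVars false
set_option linter.unusedVariables false

namespace GA2

open Cfsg Subgroup FT H4 GW MT
open H5 (IsSylowOf mem_of_eq im)
open scoped MatrixGroups

theorem aut_comm {F : Type} [Field F] [Finite F] (φ ψ : F ≃+* F) : φ.trans ψ = ψ.trans φ := by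
  obtain ⟨g, hg⟩ := IsCyclic.exists_monoid_generator (α := Fˣ)
  have key : ∀ a : F, a ≠ 0 → ∃ n : ℕ, a = (g : F) ^ n := fun a ha => by
    obtain ⟨n, e⟩ := hg (Units.mk0 a ha)
    exact ⟨n, by simpa using (congrArg Units.val e).symm⟩
  obtain ⟨i, e1⟩ := key (φ g) (by simp)
  obtain ⟨j, e2⟩ := key (ψ g) (by simp)
  ext a
  by_cases ha : a = 0
  · simp [ha]
  obtain ⟨n, rfl⟩ := key a ha
  simp only [RingEquiv.trans_apply, map_pow, e1, e2, ← pow_mul]
  congr 1; ring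

theorem sq_aut {F : Type} [Field F] [Fintype F] (φ : F ≃+* F) {a : F} (ha : a ≠ 0) :
    IsSquare (a * φ a) := by
  classical
  have h1 : φ a ≠ 0 := by simpa
  have e : IsSquare (φ a) ↔ IsSquare a := ⟨fun h => by simpa using h.map φ.symm, fun h => h.map φ⟩
  rw [← quadraticChar_one_iff_isSquare (mul_ne_zero ha h1), map_mul]
  rw [← quadraticChar_one_iff_isSquare h1, ← quadraticChar_one_iff_isSquare ha] at e
  rcases quadraticChar_dichotomy ha with e1 | e1 <;> rcases quadraticChar_dichotomy h1 with e2 | e2 <;>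
    simp [e1, e2] at e ⊢

theorem comm_le {X : Type*} [Group X] [Finite X] {L : Subgroup X} [L.Normal] (hC : Cen L = ⊥)
    (h : IsL2 L) : commutator X ≤ L := by
  obtain ⟨F, _, _, ho, -, ⟨e⟩⟩ := h
  obtain ⟨π, c⟩ := Dg.exists_ctx hC ho e
  refine commutator_le.2 fun x _ y _ => ?_
  obtain ⟨A, φ, hx⟩ := c.rep x
  obtain ⟨B, ψ, hy⟩ := c.rep y
  have r2 := hy.mul hx
  rw [aut_comm φ ψ] at r2
  have r3 := (hx.mul hy).mul r2.inv
  rw [RingEquiv.symm_trans_self] at r3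
  rw [commutatorElement_def, show x * y * x⁻¹ * y⁻¹ = x * y * (y * x)⁻¹ by group, c.mem_iff r3]
  simp only [Matrix.det_mul, Dg.mp_det, RingEquiv.apply_symm_apply, Matrix.det_nonsing_inv,
    Ring.inverse_eq_inv']
  have a0 := hx.1
  have b0 := hy.1
  have a1 : ψ A.det ≠ 0 := by simpa
  obtain ⟨u, hu⟩ := (sq_aut ψ a0).mul (sq_aut φ b0)
  exact ⟨u / (B.det * ψ A.det), by field_simp; linear_combination hu⟩

section
variable {X : Type*} [Group X] [Finite X] {i c : X}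

theorem card24 (c3 : c ^ 3 = 1) (e : i * (c * i * c⁻¹) = c * (c * i * c⁻¹) * c⁻¹) :
    Nat.card (closure ({i, c} : Set X)) ≤ 24 := by
  have c3' : c * (c * (c * i * c⁻¹) * c⁻¹) * c⁻¹ = i := by
    calc _ = c ^ 3 * i * (c ^ 3)⁻¹ := by simp only [pow_succ, pow_zero, one_mul, mul_inv_rev, mul_assoc]
      _ = i := by rw [c3]; group
  have e2 := congrArg (fun x => c * x * c⁻¹) e
  simp only [DD.cjm c i, c3'] at e2
  have e3 := congrArg (fun x => c * x * c⁻¹) e2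
  simp only [DD.cjm c (c * i * c⁻¹), c3'] at e3
  have ej : c * i * c⁻¹ = c * i * c⁻¹ := rfl
  generalize hj : c * i * c⁻¹ = j at e e2 e3
  rw [← e] at e2 e3
  have jj : j * j = i * i := by
    calc _ = i * j * i * j := by rw [e3]
      _ = i * (j * (i * j)) := by group
      _ = _ := by rw [e2]
  have ji : j * i * j⁻¹ = i⁻¹ := by
    calc _ = j * (i * j) * (j * j)⁻¹ := by group
      _ = _ := by rw [e2, jj]; group
  have i4 : i ^ 4 = 1 := by
    have : j * (i * i) * j⁻¹ = i * i := by rw [← jj]; group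
    rw [DD.cjm, ji] at this
    calc _ = i * i * (i * i) := by simp only [pow_succ, pow_zero, one_mul, mul_assoc]
      _ = 1 := by nth_rewrite 1 [← this]; group
  have n : j ∈ Nor (zpowers i) := mem_nor_zp (ji ▸ inv_mem (mem_zpowers i))
  have m : j * j ∈ zpowers i := jj ▸ mul_mem (mem_zpowers i) (mem_zpowers i)
  have c1 : Nat.card (zpowers i) ≤ 4 := by
    rw [Nat.card_zpowers]; exact orderOf_le_of_pow_eq_one (by norm_num) i4
  have c2 := TW.idx2' (S := zpowers i ⊔ zpowers j) le_sup_left fun x hx y hy h1 h2 => by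
    have a1 := ((TW.mem_sup_zp' m n).1 hx).resolve_left h1
    have a2 := ((TW.mem_sup_zp' m n).1 hy).resolve_left h2
    exact mem_of_eq (mul_mem a1 (cmem' n (mul_mem a2 (inv_mem m)))) (by group)
  have n2 : c ∈ Nor (zpowers i ⊔ zpowers j) := mnor fun x hx => by
    refine mem_conjS.1 ((sup_le (zpowers_le.2 ?_) (zpowers_le.2 ?_) :
      _ ≤ conjS c⁻¹ (zpowers i ⊔ zpowers j)) hx) |> fun h => by simpa using h
    · rw [mem_conjS, inv_inv, hj]; exact mem_sup_right (mem_zpowers j)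
    · rw [mem_conjS, inv_inv, ← e]; exact mul_mem (mem_sup_left (mem_zpowers i))
        (mem_sup_right (mem_zpowers j))
  have c4 : Nat.card (zpowers c) ≤ 3 := by
    rw [Nat.card_zpowers]; exact orderOf_le_of_pow_eq_one (by norm_num) c3
  have c5 := Nat.le_of_dvd (Nat.mul_pos Nat.card_pos Nat.card_pos)
    (H4.card_sup_dvd_of_normalizer (zpowers_le.2 n2))
  have c6 := card_le_of_le (show closure ({i, c} : Set X) ≤ zpowers c ⊔ (zpowers i ⊔ zpowers j) from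
    (closure_le _).2 (by
      rintro _ (rfl | rfl)
      exacts [mem_sup_right (mem_sup_left (mem_zpowers _)), mem_sup_left (mem_zpowers _)]))
  nlinarith

def i3 : SL(2, ZMod 3) := ⟨!![0, 2; 1, 0], by decide⟩
def c3 : SL(2, ZMod 3) := ⟨!![1, 1; 0, 1], by decide⟩

theorem sl3 : c3 ^ 3 = 1 ∧ i3 * (c3 * i3 * c3⁻¹) = c3 * (c3 * i3 * c3⁻¹) * c3⁻¹ ∧
    (∀ g : SL(2, ZMod 3), ∃ (a : Fin 4) (b : Fin 2) (e : Fin 3),
      g = i3 ^ a.1 * (c3 * i3 * c3⁻¹) ^ b.1 * c3 ^ e.1) ∧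
    ∀ g : SL(2, ZMod 3), g = 1 ∨ g ^ 3 = i3 * i3 ∨ g ^ 2 = i3 * i3 ∨
      (g * i3 * g⁻¹ * i3⁻¹) ^ 2 = i3 * i3 := by
  decide +kernel

theorem sl23 (hg : closure ({i, c} : Set X) = ⊤) (h3 : c ^ 3 = 1)
    (e : i * (c * i * c⁻¹) = c * (c * i * c⁻¹) * c⁻¹) (i2 : i * i ≠ 1) :
    Nonempty (X ≃* SL(2, ZMod 3)) := by
  set Γ := closure ({(i, i3), (c, c3)} : Set (X × SL(2, ZMod 3))) with hΓ
  have m1 : (i, i3) ∈ Γ := subset_closure (Or.inl rfl)
  have m2 : (c, c3) ∈ Γ := subset_closure (Or.inr rfl)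
  have hc : Nat.card Γ ≤ 24 := card24 (Prod.ext h3 sl3.1) (Prod.ext e sl3.2.1)
  have b2 : Function.Bijective ((MonoidHom.snd _ _).comp Γ.subtype) := by
    refine Function.Surjective.bijective_of_nat_card_le (fun g => ?_) (H6.card_sl2_three ▸ hc)
    obtain ⟨a, b, e, rfl⟩ := sl3.2.2.1 g
    exact ⟨⟨_, m1⟩ ^ a.1 * (⟨_, m2⟩ * ⟨_, m1⟩ * (⟨_, m2⟩)⁻¹) ^ b.1 * ⟨_, m2⟩ ^ e.1, by simp⟩
  have b1 : Function.Bijective ((MonoidHom.fst _ _).comp Γ.subtype) := by
    refine ⟨(injective_iff_map_eq_one _).2 ?_, ?_⟩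
    · rintro ⟨⟨x, g⟩, m⟩ (rfl : x = 1)
      have key : ∀ w : Γ, w.1.1 = 1 → w.1.2 ≠ i3 * i3 := fun w h1 h2 => i2 (by
        have : w = (⟨(i, i3), m1⟩ * ⟨(i, i3), m1⟩ : Γ) := b2.1 (by simpa using h2)
        rw [this] at h1; exact h1)
      rcases sl3.2.2.2 g with rfl | e | e | e
      · rfl
      · exact absurd e (key (⟨_, m⟩ ^ 3) (by simp))
      · exact absurd e (key (⟨_, m⟩ ^ 2) (by simp))
      · exact absurd e (key ((⟨_, m⟩ * ⟨_, m1⟩ * (⟨_, m⟩)⁻¹ * (⟨_, m1⟩)⁻¹) ^ 2) (by simp))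
    · rw [← MonoidHom.range_eq_top, eq_top_iff, ← hg, closure_le]
      rintro _ (rfl | rfl)
      exacts [⟨⟨_, m1⟩, rfl⟩, ⟨⟨_, m2⟩, rfl⟩]
  exact ⟨(MulEquiv.ofBijective _ b1).symm.trans (MulEquiv.ofBijective _ b2)⟩

end

end GA2
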