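import Cfsg.Agent.GA2.E
import Cfsg.Agent.H4.GA
import Cfsg.Agent.MX.A

/-! The centralizer modulo its core: the non-solvable factors. -/

set_option autoImplicit false
set_option linter.unusedSectionVars false
set_option linter.unusedVariables false

namespace GA2

open Cfsg Subgroup FT H4 GW MT
open H5 (IsSylowOf mem_of_eq im)
open scoped MatrixGroups

universe u

variable {G : Type u} [Group G] [Finite G] {A : Type} [CommRing A] {S N M : Subgroup G}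
  {E : A → A → K → G} {ν i j a b : A} {κ : K} {g k t u v w x y : G}

/-- the normal closure of the first class of elements of order 4 -/
abbrev N1 (E : A → A → K → G) (ν : A) : Subgroup G := normalClosure {E ν ν K.o}

theorem mN1 (c : IsConj (E ν ν K.o) u) : u ∈ N1 E ν :=
  conjugatesOfSet_subset_normalClosure (Group.mem_conjugatesOfSet_iff.2 ⟨_, rfl, c⟩)

theorem N1_le (e : ∀ u, IsConj (E ν ν K.o) u → u ∈ M) : N1 E ν ≤ M :=
  (closure_le M).2 fun x hx => by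
    obtain ⟨_, rfl, c⟩ := Group.mem_conjugatesOfSet_iff.1 hx
    exact e x c

theorem pp (g : G) : ∃ a ∈ zpowers g, ∃ b ∈ zpowers g, g = a * b ∧ (∃ k, a ^ 2 ^ k = 1) ∧
    Odd (orderOf b) := by
  obtain ⟨a, ha, b, hb, e, h1, h2⟩ := exists_pPart 2 g
  exact ⟨a, ha, b, hb, e, h1, odd_iff_cop.2 h2⟩

theorem nrm (M : Subgroup G) [M.Normal] (g : G) : g ∈ Nor M := (normalizer_eq_top M).ge (mem_top g)

/-- a good factor -/
structure Gd (E : A → A → K → G) (ν : A) (M : Subgroup G) : Prop where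
  nor : M.Normal
  le : M ≤ Cen (N1 (sy E) ν)
  iso : ∃ (F : Type) (_ : Field F) (_ : Fintype F), Odd (Fintype.card F) ∧ Nonempty (M ≃* SL(2, F))
  lc : M ≤ commutator G
  zm : E (2 * ν) (2 * ν) K.o ∈ M
  gen : ∀ x ∈ M, ∃ n ∈ N1 E ν, ∃ o ∈ M, Odd (orderOf o) ∧ x = n * o
  cov : commutator G ≤ M ⊔ Cen (N1 E ν)

theorem P.zpx (h : P S E ν) (i : A) : E i 0 K.o ∈ zpowers (E 1 0 K.o) := by
  obtain ⟨n, rfl⟩ := h.cyc i
  refine ⟨n, ?_⟩
  induction n using Int.induction_on with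
  | zero => simp [h.one]
  | succ n ih => simp only at ih ⊢; rw [zpow_add_one, ih]; simp [h.ss, kk]
  | pred n ih => simp only at ih ⊢; rw [zpow_sub_one, ih]; simp [h.ss, kk, sub_eq_add_neg]

namespace Z
variable (h : Z S E ν)
include h

theorem QN1 : h.Q ≤ N1 E ν := fun g hg => by
  have k1 := fun j => mN1 (h.fq (h.jQ j) (h.jj j))
  rcases h.dQ hg with ⟨i, rfl⟩ | ⟨i, rfl⟩
  · exact mem_of_eq (mul_mem (k1 i) (inv_mem (k1 0))) (by
      simp only [h.ss, kk, and_true]; exact ⟨by ring, by ring⟩)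
  · exact k1 i

theorem N1C : N1 E ν ≤ Cen (N1 (sy E) ν) := N1_le fun x hx =>
  cen_iff_le.2 (N1_le fun y hy => c1.2 (h.comm hx hy).symm)

theorem N2C : N1 (sy E) ν ≤ Cen (N1 E ν) := le_cen_symm h.N1C

theorem SC (hg : g ∈ S) (c : g ∈ Cen (N1 (sy E) ν)) : g ∈ h.Q :=
  h.cenQ hg (centralizer_anti h.symm.QN1 c)

theorem SC' (hg : g ∈ S) (c : g ∈ Cen (N1 E ν)) : g ∈ h.symm.Q :=
  h.symm.SC hg (by rwa [sysy])

theorem zle [hN : N.Normal] (e : ∀ g ∈ S, g ∈ N → g = 1 ∨ g = E (2 * ν) (2 * ν) K.o) :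
    N ≤ zpowers (E (2 * ν) (2 * ν) K.o) := by
  have key : ∀ x ∈ N, (∃ k, x ^ 2 ^ k = 1) → x = 1 ∨ x = E (2 * ν) (2 * ν) K.o := by
    rintro x hx ⟨k, e1⟩
    obtain ⟨g, -, e2⟩ := conj_in h.syl (mem_top x) e1
    refine (e _ e2 (hN.conj_mem x hx g)).imp (fun e => by simpa using e) fun e => ?_
    exact cjinj (e.trans (c1'.1 (h.cz g)).symm)
  have := npc_of_forall_central (p := 2) (M := N) fun x hx e1 => by
    rcases key x hx e1 with rfl | rfl
    exacts [one_mem _, cen_iff_le.2 fun g _ => h.cz g]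
  intro g hg
  obtain ⟨a, ha, b, hb, e1, h1, h2⟩ := pp g
  have := this.mem_of_coprime (zpowers_le.2 hg hb) (odd_iff_cop.1 h2)
  rw [show pPrimeCoreIn 2 N = ⊥ from h.Oo_eq, mem_bot] at this
  rw [e1, this, mul_one, mzp2 h.zz]
  exact key a (zpowers_le.2 hg ha) h1

theorem CC (h1 : g ∈ Cen (N1 E ν)) (h2 : g ∈ Cen (N1 (sy E) ν)) :
    g = 1 ∨ g = E (2 * ν) (2 * ν) K.o :=
  (mzp2 h.zz).1 (h.zle (N := Cen (N1 E ν) ⊓ Cen (N1 (sy E) ν))
    (fun g hg e => h.QQ (h.SC hg e.2) (h.SC' hg e.1)) ⟨h1, h2⟩)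

theorem fixo (ho : Odd (orderOf g)) (e : u⁻¹ * (g * u * g⁻¹) = 1 ∨
    u⁻¹ * (g * u * g⁻¹) = E (2 * ν) (2 * ν) K.o) : g ∈ Cen1 u := by
  have : u⁻¹ * (g * u * g⁻¹) = 1 := e.elim id fun e => fix_of_odd (y := u) (k := 1) ho
    (by rw [e, pow_one, pow_two, h.zz]) (e ▸ c1.1 (h.cz g)) (by group)
  exact c1'.2 (inv_mul_eq_one.1 this).symm

theorem CN [hN : N.Normal] (h2 : N.index = 2) : Cen (N1 E ν) ≤ N := fun g hg => by
  obtain ⟨a, ha, b, hb, e1, ⟨k, h1⟩, h3⟩ := pp g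
  obtain ⟨c, -, e2⟩ := conj_in h.syl (mem_top a) h1
  have := h.symm.QN h2 (h.SC' e2 (cmem (nrm _ c) (zpowers_le.2 hg ha)))
  rw [e1]
  exact mul_mem (MX.cmem2 (nrm _ c) this) (GW.mem_of_sq_mem h3 (mul_self_mem_of_index_two h2 b))

section
variable {Y : Type u} [Group Y] [Finite Y] {f : G →* Y} (hf : Function.Surjective f)
  (hk : f.ker = Cen (N1 E ν))
include hf hk

theorem fQ (hg : g ∈ h.symm.Q) : f g = 1 := by
  rw [← MonoidHom.mem_ker, hk]; exact h.N2C (h.symm.QN1 hg)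

theorem d2 : D2 Y := by
  obtain ⟨T, rfl⟩ := h.syl.exists_sylow_top
  have k1 : ∀ i j κ, κ = K.o ∨ κ = K.s → f (E i j κ) ∈ zpowers (f (E 1 0 K.o)) := by
    have z : ∀ i, f (E i 0 K.o) ∈ zpowers (f (E 1 0 K.o)) := fun i =>
      MonoidHom.map_zpowers f _ ▸ mem_map_of_mem f (h.zpx i)
    rintro i j _ (rfl | rfl)
    · rw [show E i j K.o = E (i + j) 0 K.o * E (-j) j K.o by simp [h.ss, kk], map_mul,
        h.fQ hf hk (g := E (-j) j K.o) (by simp [h.mQ']), mul_one]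
      exact z _
    · rw [show E i j K.s = E (i + j - 2 * ν) 0 K.o * E (-j + 2 * ν) j K.s by simp [h.ss, kk], map_mul,
        h.fQ hf hk (g := E (-j + 2 * ν) j K.s) (by simp [h.mQ']), mul_one]
      exact z _
  have k2 : ∀ y ∈ (T.mapSurjective hf : Subgroup Y), y ∉ zpowers (f (E 1 0 K.o)) →
      ∃ i j κ, (κ = K.r ∨ κ = K.p) ∧ y = f (E i j κ) := by
    rintro _ ⟨y, hy, rfl⟩ hn
    obtain ⟨i, j, κ, rfl⟩ := h.dec y hy
    cases κ
    exacts [absurd (k1 _ _ _ (Or.inl rfl)) hn, absurd (k1 _ _ _ (Or.inr rfl)) hn,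
      ⟨_, _, _, Or.inl rfl, rfl⟩, ⟨_, _, _, Or.inr rfl, rfl⟩]
  refine D2_of_sylow (T.mapSurjective hf) (x := f (E 1 0 K.o)) fun y hy hn => ?_
  obtain ⟨i, j, κ, e, rfl⟩ := k2 y hy hn
  refine ⟨?_, eq_inv_of_mul_eq_one_left ?_, fun w hw hn' => ?_⟩
  · rw [← map_mul]
    rcases e with rfl | rfl <;> exact h.fQ hf hk (by simp [h.ss, kk, h.mQ', add_comm])
  · rw [← map_inv, ← map_mul, ← map_mul, ← map_mul]
    rcases e with rfl | rfl <;> exact h.fQ hf hk (by simp [h.ss, kk, h.mQ', add_comm])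
  · obtain ⟨i', j', κ', e', rfl⟩ := k2 w hw hn'
    rw [← map_mul, h.mul]
    rcases e with rfl | rfl <;> rcases e' with rfl | rfl <;> exact k1 _ _ _ (by simp [kk])

theorem core : pPrimeCore 2 Y = ⊥ := by
  have two : ∀ a, (∃ k, a ^ 2 ^ k = 1) → f a ∈ pPrimeCore 2 Y → a ∈ Cen (N1 E ν) := by
    rintro a ⟨k, e⟩ ha
    rw [← hk]
    exact eq_one_of_pow_pow_of_coprime (k := k) (by rw [← map_pow, e, map_one])
      (coprime_orderOf_of_mem (coprime_card_pPrimeCore 2 Y) ha)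
  have l := h.zle (N := (pPrimeCore 2 Y).comap f ⊓ N1 E ν) fun g hg e =>
    h.QQ (h.SC hg (h.N1C e.2)) (h.SC' hg (two g (exists_pow_pow_of_mem h.pg hg) e.1))
  refine eq_bot_iff.2 fun y hy => ?_
  obtain ⟨w, rfl⟩ := hf y
  obtain ⟨a, ha, b, hb, e1, h1, h3⟩ := pp w
  have hw : w ∈ (pPrimeCore 2 Y).comap f := hy
  rw [mem_bot, ← MonoidHom.mem_ker, hk, e1]
  refine mul_mem (two a h1 (zpowers_le.2 hw ha)) (cen_iff_le.2 (N1_le fun u c => c1s.1
    (h.fixo h3 ((mzp2 h.zz).1 (l ⟨?_, ?_⟩)))))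
  · exact mem_of_eq (mul_mem (cmem' (nrm _ u) (zpowers_le.2 hw hb)) (inv_mem (zpowers_le.2 hw hb)))
      (by group)
  · exact (N1 E ν).mul_mem (inv_mem (mN1 c)) (cmem (nrm _ b) (mN1 c))

theorem fN1 (hg : g ∈ N1 E ν) : f g = 1 ↔ g = 1 ∨ g = E (2 * ν) (2 * ν) K.o := by
  rw [← MonoidHom.mem_ker, hk]
  refine ⟨fun e => h.CC e (h.N1C hg), ?_⟩
  rintro (rfl | rfl)
  exacts [one_mem _, cen_iff_le.2 fun g _ => h.cz g]

theorem two_of {V : Subgroup Y} [V.Normal] (hV : IsPGroup 2 V) (e : f (E ν ν K.o) ∈ V) :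
    IsPGroup 2 (N1 E ν) := isPGroup_iff_forall.2 fun x hx => by
  obtain ⟨k, e1⟩ := exists_pow_pow_of_mem hV (normalClosure_le_normal (N := V.comap f)
    (Set.singleton_subset_iff.2 e) hx)
  rw [← map_pow, h.fN1 hf hk (pow_mem hx _)] at e1
  refine ⟨k + 1, ?_⟩
  rw [pow_succ, pow_mul, pow_two]
  rcases e1 with e1 | e1 <;> rw [e1]
  exacts [mul_one 1, h.zz]

theorem f4 : F4 (f (E ν ν K.o)) (f (E (0 + 2 * ν) 0 K.p)) := by
  have a := h.QN1 h.aQ
  have j := h.QN1 (h.jQ 0)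
  have n : ν ≠ 0 := fun e => h.n2 (by rw [e, mul_zero])
  have n' : ν ≠ 2 * ν := fun e => n (by linear_combination -e)
  refine ⟨MT.o2 ?_ ?_, MT.o2 ?_ ?_, ?_, fun e => ?_⟩
  · rw [← map_mul, h.fN1 hf hk (mul_mem a a)]; exact Or.inr h.aa
  · rw [Ne, h.fN1 hf hk a]; simp [h.ss, n, n']
  · rw [← map_mul, h.fN1 hf hk (mul_mem j j)]; exact Or.inr (h.jj 0)
  · rw [Ne, h.fN1 hf hk j]; simp [h.ss]
  · rw [← mul_inv_eq_one, ← map_mul, ← map_mul, ← map_inv, ← map_mul,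
      h.fN1 hf hk (mul_mem (mul_mem a j) (inv_mem (mul_mem j a)))]
    right; simp only [h.ss, kk, and_true]; constructor <;> ring
  · rw [← mul_inv_eq_one, ← map_inv, ← map_mul, h.fN1 hf hk (mul_mem j (inv_mem a))] at e
    simp [h.ss, kk] at e

theorem gd {L : Subgroup Y} (s : Soc L) (l : IsL2 L) : Gd E ν (N1 E ν) := by
  have := s.nor
  have := s.simple
  have f4 := h.f4 hf hk
  obtain ⟨q, τ, σ, p⟩ := lfacts (h.d2 hf hk) L s.cen l
  have cj : ∀ u, IsConj (E ν ν K.o) u → f u ∈ L → f (E ν ν K.o) ∈ L := fun u c e => by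
    obtain ⟨g, rfl⟩ := isConj_iff.1 c
    rw [map_mul, map_mul, map_inv] at e
    exact MX.cmem2 (nrm L _) e
  have aL : f (E ν ν K.o) ∈ L := by
    rcases p.four _ _ f4.ht f4.ha f4.c f4.ne.symm with e | e | e
    · exact e
    · exact cj _ (h.fq (h.jQ 0) (h.jj 0)) e
    · refine cj _ (h.fq (h.jQ ν) (h.jj ν)) (mem_of_eq e ?_)
      rw [← map_mul]; congr 1; simp [h.ss, kk]
  have l1 : N1 E ν ≤ L.comap f := normalClosure_le_normal (Set.singleton_subset_iff.2 aL)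
  have l2 : L ≤ (N1 E ν).map f := by
    have := Normal.map (inferInstance : (N1 E ν).Normal) f hf
    refine subgroupOf_eq_top.1 ((IsSimpleGroup.eq_bot_or_eq_top_of_normal
      (((N1 E ν).map f).subgroupOf L) inferInstance).resolve_left fun e => ine f4.ht ?_)
    exact congrArg Subtype.val (mem_bot.1 (e.le (show (⟨_, aL⟩ : L) ∈ _ from
      mem_map_of_mem f (h.QN1 h.aQ))))
  have cl := comm_le s.cen l
  obtain ⟨F, _, _, ho, hq, ⟨e⟩⟩ := l
  let φ : N1 E ν →* PSL(2, F) := e.toMonoidHom.comp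
    ((f.comp (N1 E ν).subtype).codRestrict L fun x => l1 x.2)
  have sφ : Function.Surjective φ := e.surjective.comp fun y => by
    obtain ⟨x, hx, e⟩ := l2 y.2
    exact ⟨⟨x, hx⟩, Subtype.ext e⟩
  have zN := h.QN1 h.zQ
  have kφ : φ.ker = zpowers ⟨_, zN⟩ := by
    ext x
    rw [mzp2 (Subtype.ext h.zz), Subtype.ext_iff, Subtype.ext_iff, coe_one, ← h.fN1 hf hk x.2]
    exact (e.map_eq_one_iff).trans Subtype.ext_iff
  have pf : commutator (N1 E ν) = ⊤ := eq_top_iff.2 fun x _ => by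
    obtain ⟨c, e1⟩ := surj_comm φ sφ (haveI : Group.IsPerfect SL(2, F) :=
      ⟨H8.sl_commutator_eq_top (slok hq)⟩; Group.IsPerfect.commutator_eq_top) (φ x)
    have m : (c : N1 E ν)⁻¹ * x ∈ φ.ker := by
      rw [MonoidHom.mem_ker, map_mul, map_inv, ← e1]; simp
    rw [kφ] at m
    refine (mul_mem_cancel_left (inv_mem c.2)).1 (zpowers_le.2 (mem_of_eq
      (commutator_mem_commutator (mem_top (⟨_, h.QN1 h.aQ⟩ : N1 E ν)) (mem_top ⟨_, h.QN1 (h.jQ 0)⟩))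
      (Subtype.ext ?_)) m)
    simp only [commutatorElement_def, coe_mul, coe_inv, h.ss, kk, and_true]
    constructor <;> ring
  refine ⟨inferInstance, h.N1C, ⟨F, _, _, ho, cover_sl2 ho hq φ sφ (z := ⟨_, zN⟩)
    (by rw [orderOf_mk, h.oz]) (fun g => Subtype.ext (c1.1 (h.cz g))) kφ pf⟩, fun x hx => ?_, zN,
    fun x hx => ⟨x, hx, 1, one_mem _, by simp, by simp⟩, fun g hg => ?_⟩
  · have := mem_map_of_mem (N1 E ν).subtype (pf.ge (mem_top ⟨x, hx⟩))
    rw [map_commutator_eq] at this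
    exact commutator_mono le_top le_top this
  · have : f g ∈ commutator Y := by
      have := mem_map_of_mem f hg
      rw [map_commutator_eq] at this
      exact commutator_mono le_top le_top this
    obtain ⟨x, hx, e⟩ := l2 (cl this)
    refine mem_of_eq (mul_mem (mem_sup_left hx) (mem_sup_right (S := N1 E ν) (x := x⁻¹ * g) ?_))
      (by group)
    rw [← hk, MonoidHom.mem_ker, map_mul, map_inv, e, inv_mul_cancel]

end

theorem tri : IsPGroup 2 (N1 E ν) ∨ Gd E ν (N1 E ν) := by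
  have hf := QuotientGroup.mk'_surjective (Cen (N1 E ν))
  have hk := QuotientGroup.ker_mk' (Cen (N1 E ν))
  generalize QuotientGroup.mk' (Cen (N1 E ν)) = f at hf hk
  have hD := h.d2 hf hk
  rcases hD.gfit (h.core hf hk) with e | ⟨t, a, e, h1, h2⟩ | ⟨h1, h2, h3⟩
  · exact Or.inl (h.two_of hf hk (e.to_subgroup ⊤) (mem_top _))
  · refine Or.inl (h.two_of hf hk e.two_V (h2 (cen.2 fun y hy => ?_)))
    obtain ⟨x, hx, rfl⟩ := ((h.syl.map f).le_of_le_normalizer e.two_V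
      (by rw [← MonoidHom.range_eq_map, MonoidHom.range_eq_top.2 hf]; exact le_top)
      (fun g _ => nrm _ g)) hy
    refine (c1.1 (c1s.1 (c1'.2 ?_)))
    rw [← map_inv, ← map_mul, ← map_mul]
    rcases mPm.1 (h.SPm hx) with e | e <;> rw [e]
    rw [map_inv, iinv (h.f4 hf hk).ht]
  have s : Soc (layer _) := ⟨inferInstance, h1, h2, h3⟩
  rcases gwThm _ h2 (hD.sub _) with e | e
  · exact Or.inr (h.gd hf hk s e)
  obtain ⟨N, hN, e2⟩ := h.idx2 h.cz
  have e3 := (afacts hD _ h3 e).1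
  rw [e3] at h1 h2
  have := (topEquiv.symm.isSimpleGroup : IsSimpleGroup (G ⧸ Cen (N1 E ν)))
  exact absurd ((index_map_eq _ hf (hk.le.trans (h.CN e2))).trans e2) (H5.Dich.no_index_two_of_simple
    (fun e => h2 inferInstance) _ (hN.map f hf))

end Z

end GA2
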