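import Cfsg.Agent.GA2.F

/-! The centralizer modulo its core: the solvable factors and the final structure. -/

set_option autoImplicit false
set_option linter.unusedSectionVars false
set_option linter.unusedVariables false

namespace GA2

open Cfsg Subgroup FT H4 GW MT
open H5 (IsSylowOf mem_of_eq im)
open scoped MatrixGroups commutatorElement

universe u

variable {G : Type u} [Group G] [Finite G] {A : Type} [CommRing A] {S N M : Subgroup G}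
  {E : A → A → K → G} {ν i j a b : A} {κ : K} {c g k t u v w x y : G}

/-- equal up to inversion -/
def Ei (x y : G) : Prop := x = y ∨ x = y⁻¹

theorem Ei.symm (h : Ei x y) : Ei y x := h.imp Eq.symm fun e => by rw [e, inv_inv]

theorem Ei.trans (h : Ei x y) (h' : Ei y w) : Ei x w := by
  rcases h with rfl | rfl <;> rcases h' with rfl | rfl <;> simp [Ei]

theorem Ei.cj (h : Ei x y) (g : G) : Ei (g * x * g⁻¹) (g * y * g⁻¹) :=
  h.imp (fun e => by rw [e]) fun e => by rw [e, cjinv]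

theorem Ei.cj' (h : Ei (g * x * g⁻¹) (g * y * g⁻¹)) : Ei x y :=
  h.imp cjinj fun e => cjinj (by rw [e, cjinv])

theorem Ei.rf (x : G) : Ei x x := Or.inl rfl

theorem cjmul (g k x : G) : g * k * x * (g * k)⁻¹ = g * (k * x * k⁻¹) * g⁻¹ := by group

namespace P
variable (h : P S E ν)
include h

theorem aj (b : A) : E ν ν K.o * E (b + 2 * ν) b K.p = E (ν + b + 2 * ν) (ν + b) K.p := by
  simp [h.ss, kk, add_assoc]

theorem naj (b : A) : ¬ Ei (E (b + 2 * ν) b K.p) (E ν ν K.o) := by simp [Ei, h.ss, kk]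

theorem njk (b : A) : ¬ Ei (E ν ν K.o * E (b + 2 * ν) b K.p) (E (b + 2 * ν) b K.p) := by
  simp only [Ei, h.ss, kk, and_true, not_or]
  exact ⟨fun e => h.n2 (by linear_combination 2 * e.2), fun e => h.n2 (by
    linear_combination -2 * e.2)⟩

theorem xj (e : ν = 1) (b : A) : E 1 0 K.o * E (b + 2 * ν) b K.p * (E 1 0 K.o)⁻¹ =
    E ν ν K.o * E (b + 2 * ν) b K.p := by
  subst e; simp only [h.ss, kk, and_true]; constructor <;> ring

theorem six (e : ν = 1) (b : A) (hu : u ∈ h.Q) (uu : u * u = E (2 * ν) (2 * ν) K.o) :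
    Ei u (E ν ν K.o) ∨ Ei u (E (b + 2 * ν) b K.p) ∨ Ei u (E ν ν K.o * E (b + 2 * ν) b K.p) := by
  rcases h.dQ hu with ⟨i, rfl⟩ | ⟨i, rfl⟩
  · simp only [h.ss, kk, and_true, and_self] at uu
    rcases h.two' (i := i) (by linear_combination uu) with rfl | rfl <;> simp [Ei, h.ss, kk]
  have n4 := h.n4
  right
  simp only [Ei, h.ss, kk, and_true]
  obtain ⟨c, e1 | e1⟩ := h.par (i - b)
  · rcases h.two (i - b) (by rw [e1]; linear_combination c * n4 - 4 * c * e) with e2 | e2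
    · exact Or.inl (Or.inl ⟨by linear_combination e2, by linear_combination e2⟩)
    · exact Or.inl (Or.inr ⟨by linear_combination e2 + n4, by linear_combination e2⟩)
  · rcases h.two' (i := i - b) (by rw [e1]; linear_combination c * n4 - (4 * c + 2) * e) with e2 | e2
    · exact Or.inr (Or.inl ⟨by linear_combination e2, by linear_combination e2⟩)
    · exact Or.inr (Or.inr ⟨by linear_combination e2, by linear_combination e2 - n4⟩)

theorem QPm : h.Q ≤ Pm (E ν ν K.o) := h.QS.trans h.SPm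

theorem gQ (e : ν = 1) (b : A) (h1 : E ν ν K.o ∈ M) (h2 : E (b + 2 * ν) b K.p ∈ M) : h.Q ≤ M := by
  subst e
  intro g hg
  rcases h.dQ hg with ⟨i, rfl⟩ | ⟨i, rfl⟩
  · exact zpowers_le.2 h1 (h.zp i)
  · exact mem_of_eq (mul_mem (zpowers_le.2 h1 (h.zp (i - b))) h2) (by
      simp only [h.ss, kk, and_true]; constructor <;> ring)

theorem QPm' (e : ν = 1) (b : A) : h.Q ≤ Pm (E (b + 2 * ν) b K.p) :=
  h.gQ e b (Or.inr (by simp only [h.ss, kk, and_true]; exact ⟨by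
    linear_combination h.n4, by ring⟩)) (Or.inl (by simp))

end P

namespace Z
variable (h : Z S E ν) (h2 : IsPGroup 2 (N1 E ν))
include h h2

theorem NQ : N1 E ν = h.Q := le_antisymm (fun g hg =>
  h.SC (h.syl.le_of_le_normalizer h2 le_top (fun g _ => nrm _ g) hg) (h.N1C hg)) h.QN1

theorem nQ (g : G) (hu : u ∈ h.Q) : g * u * g⁻¹ ∈ h.Q := by
  rw [← h.NQ h2] at hu ⊢; exact cmem (nrm _ g) hu

theorem nu1 : ν = 1 := h.big.resolve_right fun ⟨μ, e⟩ => by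
  obtain ⟨g, e1⟩ := isConj_iff.1 (h.fq (h.jQ 0) (h.jj 0))
  have := h.sq (h.QS (h.nQ h2 g (h.cQ μ)))
  rw [cjsq (y := E ν ν K.o) (by simp [h.ss, kk, e, two_mul]), e1] at this
  simp [h.mT] at this

theorem six' (b : A) (g : G) (hu : u ∈ h.Q) (uu : u * u = E (2 * ν) (2 * ν) K.o) :
    Ei (g * u * g⁻¹) (E ν ν K.o) ∨ Ei (g * u * g⁻¹) (E (b + 2 * ν) b K.p) ∨
      Ei (g * u * g⁻¹) (E ν ν K.o * E (b + 2 * ν) b K.p) :=
  h.six (h.nu1 h2) b (h.nQ h2 g hu) (by rw [cjsq uu, c1'.1 (h.cz g)])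

theorem inner (b : A) (h1 : g ∈ Pm (E ν ν K.o)) (h3 : g ∈ Pm (E (b + 2 * ν) b K.p)) :
    ∃ q ∈ h.Q, g * q ∈ Cen (N1 E ν) := by
  have key : ∀ w, w ∈ Cen1 (E ν ν K.o) → w ∈ Cen1 (E (b + 2 * ν) b K.p) → w ∈ Cen (N1 E ν) :=
    fun w a1 a2 => h.NQ h2 ▸ cen_iff_le.2 (h.gQ (h.nu1 h2) b (c1s.1 a1) (c1s.1 a2))
  have n4 := h.n4
  have a1 : E (b + 2 * ν) b K.p * E ν ν K.o * (E (b + 2 * ν) b K.p)⁻¹ = (E ν ν K.o)⁻¹ := by
    simp only [h.ss, kk, and_true]; constructor <;> ring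
  have a2 : E ν ν K.o * E (b + 2 * ν) b K.p * (E ν ν K.o)⁻¹ = (E (b + 2 * ν) b K.p)⁻¹ := by
    simp only [h.ss, kk, and_true]; exact ⟨by linear_combination n4, by ring⟩
  rcases mPm.1 h1 with e1 | e1 <;> rcases mPm.1 h3 with e3 | e3
  · exact ⟨1, one_mem _, key _ (by rw [mul_one]; exact c1'.2 e1) (by rw [mul_one]; exact c1'.2 e3)⟩
  · exact ⟨_, h.aQ, key _ (mul_mem (c1'.2 e1) (c1.2 rfl))
      (c1'.2 (by rw [cjmul, a2, cjinv, e3, inv_inv]))⟩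
  · exact ⟨_, h.jQ b, key _ (c1'.2 (by rw [cjmul, a1, cjinv, e1, inv_inv]))
      (mul_mem (c1'.2 e3) (c1.2 rfl))⟩
  · exact ⟨_, mul_mem h.aQ (h.jQ b), key _ (c1'.2 (by
      rw [cjmul, cjmul, a1, cjinv, mul_inv_cancel_right, cjinv, e1, inv_inv]))
      (c1'.2 (by rw [cjmul, cjmul, mul_inv_cancel_right, a2, cjinv, e3, inv_inv]))⟩

theorem pmj (b : A) (h1 : g ∈ Pm (E ν ν K.o)) :
    g ∈ Pm (E (b + 2 * ν) b K.p) ∨ (E 1 0 K.o)⁻¹ * g ∈ Pm (E (b + 2 * ν) b K.p) := by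
  rcases h.six' h2 b g (h.jQ b) (h.jj b) with e | e | e
  · exact absurd (Ei.cj' (e.trans (Ei.symm h1))) (h.naj b)
  · exact Or.inl e
  · right
    have := e.cj (E 1 0 K.o)⁻¹
    rw [← h.xj (h.nu1 h2), ← cjmul, ← cjmul, inv_mul_cancel, one_mul, inv_one, mul_one] at this
    exact this

omit h2 in
theorem xPm : E 1 0 K.o ∈ Cen1 (E ν ν K.o) := h.cT (h.mo _ _) (h.mo _ _)

theorem exc : ∃ c ∈ Cen (N1 (sy E) ν), c ∉ Pm (E ν ν K.o) := by
  obtain ⟨g, hg, e⟩ := h.exg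
  replace e : Ei _ _ := e
  rcases h.symm.tri with h3 | h3
  · obtain ⟨g, hg, hg', e⟩ : ∃ g ∈ Pm (E ν (-ν) K.o), g ∈ Pm (sy E (0 + 2 * ν) 0 K.p) ∧
        Ei (g * E (ν + 2 * ν) ν K.p * g⁻¹) (E ν ν K.o) := by
      rcases h.symm.pmj h3 0 hg with e1 | e1
      · exact ⟨g, hg, e1, e⟩
      · refine ⟨_, mul_mem (inv_mem (cen_le_Pm _ h.symm.xPm)) hg, e1, ?_⟩
        have := e.cj (sy E 1 0 K.o)⁻¹
        rwa [← cjmul, c1'.1 (inv_mem (h.cT (h.mo ν ν) (h.symT.le (h.symm.mo 1 0))))] at this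
    obtain ⟨q, hq, e1⟩ := h.symm.inner h3 0 hg hg'
    refine ⟨_, e1, fun e2 => h.naj ν (Ei.cj' (g := g * q) (Ei.trans ?_ (Ei.symm e2)))⟩
    rwa [cjmul, c1'.1 (c1.2 (h.qc (h.jQ ν) hq).symm)]
  obtain ⟨n, hn, c, hc, e1⟩ := (H5.mem_sup_right_iff (fun g _ => nrm _ g)).1
    (h3.cov (commutator_mem_commutator (mem_top g) (mem_top (E 1 0 K.o))))
  refine ⟨c, hc, fun e2 => h.njk ν (Ei.cj' (g := g) ?_)⟩
  have e3 : Ei _ _ := mul_mem (cen_le_Pm _ (cen_le_cen1 (h.QN1 h.aQ) (h.N2C hn))) e2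
  rw [e1, commutatorElement_def, cjmul, c1'.1 (inv_mem h.xPm)] at e3
  refine Ei.trans (Ei.trans ?_ e3) e.symm
  rw [← h.xj (h.nu1 h2)]
  convert e.cj (g * E 1 0 K.o * g⁻¹) using 1
  group

omit h h2 in
theorem odd_Pm (ho : Odd (orderOf g)) (e : g ∈ Pm u) : g ∈ Cen1 u :=
  GW.mem_of_sq_mem ho (c1'.2 (by
    rw [cjmul]; rcases mPm.1 e with e | e <;> rw [e]
    exacts [e, by rw [cjinv, e, inv_inv]]))

theorem exc' : ∃ c ∈ Cen (N1 (sy E) ν), Odd (orderOf c) ∧ c ^ 3 = 1 ∧ ∃ b,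
    c * E ν ν K.o * c⁻¹ = E (b + 2 * ν) b K.p ∧
    Ei (c * E (b + 2 * ν) b K.p * c⁻¹) (E ν ν K.o * E (b + 2 * ν) b K.p) ∧
    Ei (c * (E ν ν K.o * E (b + 2 * ν) b K.p) * c⁻¹) (E ν ν K.o) := by
  obtain ⟨g, hg, e⟩ := h.exc h2
  obtain ⟨a, ha, c, hc, e1, ⟨k, h1⟩, ho⟩ := pp g
  obtain ⟨d, -, e2⟩ := conj_in h.syl (mem_top a) h1
  have m := h.nQ h2 d⁻¹ (h.SC e2 (cmem (nrm _ d) (zpowers_le.2 hg ha)))
  rw [← cjmul, inv_mul_cancel, one_mul, inv_one, mul_one] at m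
  have n : ¬ Ei (c * E ν ν K.o * c⁻¹) (E ν ν K.o) := fun e3 => e (e1 ▸ mul_mem (h.QPm m) e3)
  have hc' := zpowers_le.2 hg hc
  obtain ⟨b, e3⟩ : ∃ b, c * E ν ν K.o * c⁻¹ = E (b + 2 * ν) b K.p := by
    refine (h.dQ (h.nQ h2 c h.aQ)).resolve_left fun ⟨i, e3⟩ => n ?_
    exact h.sqa (e3 ▸ h.mo _ _) (by rw [cjsq h.aa, c1'.1 (h.cz c)]) (isConj_mk _ _)
  have e4 : Ei (c * E (b + 2 * ν) b K.p * c⁻¹) (E ν ν K.o * E (b + 2 * ν) b K.p) := by
    rcases h.six' h2 b c (h.jQ b) (h.jj b) with e4 | e4 | e4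
    · rw [← e3, ← cjmul] at e4
      exact absurd (GW.mem_of_sq_mem ho (N := Pm _) e4) n
    · nth_rewrite 2 [← e3] at e4
      exact absurd e4.cj' (h.naj b)
    · exact e4
  have e5 : Ei (c * (E ν ν K.o * E (b + 2 * ν) b K.p) * c⁻¹) (E ν ν K.o) := by
    rw [DD.cjm, e3]
    rcases e4 with e4 | e4 <;> rw [e4]
    · left; simp only [h.ss, kk, and_true]; exact ⟨by ring, by linear_combination -h.n4⟩
    · right; group
  have o3 : Odd (orderOf (c ^ 3)) := ho.of_dvd_nat (orderOf_pow_dvd 3)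
  have e6 : c ^ 3 ∈ Cen1 (E ν ν K.o) := odd_Pm o3 (by
    rw [mPm, pow_three, cjmul, cjmul, e3]; exact (e4.cj c).trans e5)
  have e7 : c ^ 3 ∈ Cen1 (E (b + 2 * ν) b K.p) := mem_of_eq (e3 ▸ DD.c1j e6 c) (by group)
  refine ⟨c, hc', ho, ?_, b, e3, e4, e5⟩
  refine (h.CC (h.NQ h2 ▸ cen_iff_le.2 (h.gQ (h.nu1 h2) b (c1s.1 e6) (c1s.1 e7)))
    (pow_mem hc' 3)).resolve_right fun e => ?_
  rw [e, h.oz] at o3
  exact absurd o3 (by decide)

theorem gd2 : Gd E ν (Cen (N1 (sy E) ν)) := by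
  obtain ⟨c, hc, ho, c3, b, e3, e4, e5⟩ := h.exc' h2
  obtain ⟨N, hN, i2⟩ := h.idx2 h.cz
  have cN := h.symm.CN i2
  have QC : h.Q ≤ Cen (N1 (sy E) ν) := h.QN1.trans h.N1C
  have dec : ∀ g ∈ N, ∃ e, (e = 1 ∨ e = c ∨ e = c⁻¹) ∧ ∃ q ∈ h.Q, e * g * q ∈ Cen (N1 E ν) := by
    intro g hg
    obtain ⟨e, he, m⟩ : ∃ e, (e = 1 ∨ e = c ∨ e = c⁻¹) ∧ e * g ∈ Pm (E ν ν K.o) := by
      rcases h.six' h2 b g h.aQ h.aa with e | e | e
      · exact ⟨1, Or.inl rfl, by rw [one_mul]; exact e⟩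
      · refine ⟨_, Or.inr (Or.inr rfl), ?_⟩
        have := e.cj c⁻¹
        rw [← e3, ← cjmul, ← cjmul, inv_mul_cancel, one_mul, inv_one, mul_one] at this
        exact this
      · exact ⟨_, Or.inr (Or.inl rfl), by rw [mPm, cjmul]; exact (e.cj c).trans e5⟩
    refine ⟨e, he, ?_⟩
    rcases h.pmj h2 b m with e1 | e1
    · exact h.inner h2 b m e1
    obtain ⟨q, hq, e2⟩ := h.inner h2 b (mul_mem (inv_mem (cen_le_Pm _ h.xPm)) m) e1
    have eN : e ∈ N := by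
      rcases he with rfl | rfl | rfl
      exacts [one_mem _, cN hc, inv_mem (cN hc)]
    exact absurd (inv_mem_iff.1 ((mul_mem_cancel_right (mul_mem eN hg)).1
      ((mul_mem_cancel_right (h.QN i2 hq)).1 (h.CN i2 e2)))) (h.xN i2)
  have ec : ∀ e, (e = 1 ∨ e = c ∨ e = c⁻¹) → e ∈ zpowers c := by
    rintro _ (rfl | rfl | rfl)
    exacts [one_mem _, mem_zpowers _, inv_mem (mem_zpowers _)]
  have dec1 : ∀ g ∈ Cen (N1 (sy E) ν), ∃ e, (e = 1 ∨ e = c ∨ e = c⁻¹) ∧ e * g ∈ h.Q := fun g hg => by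
    obtain ⟨e, he, q, hq, e1⟩ := dec g (cN hg)
    refine ⟨e, he, (mul_mem_cancel_right hq).1 ?_⟩
    rcases h.CC e1 (mul_mem (mul_mem (zpowers_le.2 hc (ec e he)) hg) (QC hq)) with e | e <;> rw [e]
    exacts [one_mem _, h.zQ]
  have gen : ∀ M : Subgroup G, E ν ν K.o ∈ M → c ∈ M → Cen (N1 (sy E) ν) ≤ M := fun M h1 h3 g hg => by
    obtain ⟨e, he, e1⟩ := dec1 g hg
    exact (mul_mem_cancel_left (zpowers_le.2 h3 (ec e he))).1 (h.gQ (h.nu1 h2) b h1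
      (e3 ▸ mul_mem (mul_mem h3 h1) (inv_mem h3)) e1)
  have aG : E ν ν K.o ∈ commutator G := by
    have := commutator_mem_commutator (mem_top c) (mem_top (E ν ν K.o))
    rw [commutatorElement_def, e3, show E (b + 2 * ν) b K.p * (E ν ν K.o)⁻¹ =
      E (b + ν + 2 * ν) (b + ν) K.p by
        simp only [h.ss, kk, and_true]; constructor <;> ring] at this
    obtain ⟨g, e⟩ := isConj_iff.1 (h.fq (h.jQ (b + ν)) (h.jj _))
    exact MX.cmem2 (nrm _ g) (e ▸ this)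
  refine ⟨inferInstance, le_rfl, ⟨ZMod 3, inferInstance, inferInstance, by rw [ZMod.card]; decide, ?_⟩, gen _ aG ?_, QC h.zQ,
    fun x hx => ?_, fun g hg => ?_⟩
  · have key : ∀ i ∈ h.Q, (∀ M : Subgroup G, i ∈ M → E ν ν K.o ∈ M) →
        i * i = E (2 * ν) (2 * ν) K.o → i * (c * i * c⁻¹) = c * (c * i * c⁻¹) * c⁻¹ →
        Nonempty (Cen (N1 (sy E) ν) ≃* SL(2, ZMod 3)) := fun i hi e1 e2 e => by
      refine sl23 (i := ⟨i, QC hi⟩) (c := ⟨c, hc⟩) (eq_top_iff.2 fun x _ => ?_) (Subtype.ext c3)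
        (Subtype.ext e) fun e => ine h.oz (e2.symm.trans (congrArg Subtype.val e))
      obtain ⟨y, hy, e⟩ := gen ((Subgroup.closure ({⟨i, QC hi⟩, ⟨c, hc⟩} :
        Set (Cen (N1 (sy E) ν)))).map (Cen (N1 (sy E) ν)).subtype)
        (e1 _ ⟨_, subset_closure (Or.inl rfl), rfl⟩) ⟨_, subset_closure (Or.inr rfl), rfl⟩ x.2
      exact Subtype.ext e ▸ hy
    rcases e4 with e4 | e4
    · exact key _ h.aQ (fun _ e => e) h.aa (by rw [e3, e4])
    · refine key _ (inv_mem h.aQ) (fun _ e => inv_mem_iff.1 e) (by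
        rw [← mul_inv_rev, h.aa, iinv h.oz]) ?_
      rw [cjinv, e3, cjinv, e4, inv_inv]
      simp only [h.ss, kk, and_true]; exact ⟨by linear_combination -h.n4, by ring⟩
  · have m := commutator_mem_commutator (mem_top (E 1 0 K.o)) (mem_top c)
    have QG : h.Q ≤ commutator G :=
      h.QN1.trans (normalClosure_le_normal (Set.singleton_subset_iff.2 aG))
    obtain ⟨e, he, e1⟩ := dec1 ⁅E 1 0 K.o, c⁆ (mul_mem (cmem (nrm _ _) hc) (inv_mem hc))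
    have := (mul_mem_cancel_right m).1 (QG e1)
    rcases he with rfl | rfl | rfl
    · have e2 : Ei _ _ := h.QPm' (h.nu1 h2) b e1
      nth_rewrite 1 [← e3] at e2
      rw [one_mul, commutatorElement_def, cjmul, ← cjmul c⁻¹, inv_mul_cancel, one_mul, inv_one,
        mul_one, cjmul, c1'.1 (inv_mem h.xPm), cjmul, e3, h.xj (h.nu1 h2)] at e2
      exact absurd e2 (h.njk b)
    exacts [this, inv_mem_iff.1 this]
  · obtain ⟨e, he, e1⟩ := dec1 x hx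
    refine ⟨_, h.QN1 (h.nQ h2 e⁻¹ e1), e⁻¹, zpowers_le.2 hc (inv_mem (ec e he)),
      ho.of_dvd_nat (orderOf_dvd_of_mem_zpowers (inv_mem (ec e he))), by group⟩
  · obtain ⟨e, he, q, hq, e1⟩ := dec g (commutator_le.2 (fun x _ y _ => by
      rw [commutatorElement_def, mul_assoc, mul_assoc, mul_mem_iff_of_index_two i2,
        mul_mem_iff_of_index_two i2, mul_mem_iff_of_index_two i2, inv_mem_iff, inv_mem_iff]
      tauto) hg)
    exact (mul_mem_cancel_left (mem_sup_left (zpowers_le.2 hc (ec e he)))).1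
      ((mul_mem_cancel_right (mem_sup_left (QC hq))).1 (mem_sup_right e1))

omit h2

theorem exGd : ∃ M, Gd E ν M := h.tri.elim (fun e => ⟨_, h.gd2 e⟩) fun e => ⟨_, e⟩

theorem fin : ∃ L₁ L₂ : Subgroup G, L₁.Normal ∧ L₂.Normal ∧
    (∃ (F : Type) (_ : Field F) (_ : Fintype F), Odd (Fintype.card F) ∧ Nonempty (L₁ ≃* SL(2, F))) ∧
    (∃ (F : Type) (_ : Field F) (_ : Fintype F), Odd (Fintype.card F) ∧ Nonempty (L₂ ≃* SL(2, F))) ∧
    ⁅L₁, L₂⁆ = ⊥ ∧ L₁ ⊔ L₂ = commutator G := by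
  obtain ⟨L₁, p⟩ := h.exGd
  obtain ⟨L₂, q⟩ := h.symm.exGd
  have l2 : L₂ ≤ Cen (N1 E ν) := by have := q.le; rwa [sysy] at this
  have := p.nor
  have := q.nor
  refine ⟨L₁, L₂, p.nor, q.nor, p.iso, q.iso, commutator_eq_bot_iff_le_centralizer.2 fun x hx =>
    cen_iff_le.2 fun y hy => ?_, le_antisymm (sup_le p.lc q.lc) fun g hg => ?_⟩
  · obtain ⟨n, hn, o, ho, oo, rfl⟩ := p.gen x hx
    refine c1s.1 (mul_mem (c1s.1 (cen_le_cen1 hn (l2 hy))) (h.fixo oo (h.CC ?_ ?_)))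
    · exact mul_mem (inv_mem (l2 hy)) (cmem (nrm _ o) (l2 hy))
    · exact mem_of_eq (mul_mem (cmem' (nrm _ y) (p.le ho)) (inv_mem (p.le ho))) (by group)
  · obtain ⟨m, hm, c, hc, e1⟩ := (H5.mem_sup_right_iff (fun g _ => nrm _ g)).1 (p.cov hg)
    obtain ⟨m', hm', c', hc', e2⟩ := (H5.mem_sup_right_iff (fun g _ => nrm _ g)).1 (q.cov hg)
    have : m'⁻¹ * c ∈ L₁ := by
      rcases h.CC (g := m'⁻¹ * c) (mul_mem (inv_mem (l2 hm')) hc) (mem_of_eq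
        (mul_mem (cmem' (nrm _ m') (inv_mem (p.le hm))) hc') (by
          rw [eq_inv_mul_of_mul_eq e1, ← e2]; group)) with e | e <;> rw [e]
      exacts [one_mem _, p.zm]
    exact mem_of_eq (mul_mem (mul_mem (mem_sup_left hm) (mem_sup_right hm')) (mem_sup_left this))
      (by rw [← e1]; group)

end Z

end GA2
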