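import Cfsg.Agent.GA2.B

/-! From the presentation to coordinates. -/

set_option autoImplicit false
set_option linter.unusedSectionVars false
set_option linter.unusedVariables false

namespace GA2

open Cfsg Subgroup FT H4 GW MT
open H5 (IsSylowOf mem_of_eq)

universe u

section
variable {X : Type*} [Group X] {m : ℕ} [NeZero m] {x y s r : X}

theorem pw_add (h : orderOf x = m) (i j : ZMod m) : x ^ (i + j).val = x ^ i.val * x ^ j.val := by
  subst h
  rw [ZMod.val_add, pow_mod_orderOf, pow_add]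

theorem pw_neg (h : orderOf x = m) (i : ZMod m) : x ^ (-i).val = (x ^ i.val)⁻¹ :=
  eq_inv_of_mul_eq_one_left (by rw [← pw_add h, neg_add_cancel, ZMod.val_zero, pow_zero])

theorem pw_eq (h : orderOf x = m) {i : ZMod m} (e : x ^ i.val = 1) : i = 0 :=
  (ZMod.val_eq_zero i).1 (Nat.eq_zero_of_dvd_of_lt
    (h.symm.dvd.trans (orderOf_dvd_of_pow_eq_one e)) i.val_lt)

def kel (s r : X) : K → X
  | K.o => 1 | K.s => s | K.r => r | K.p => s * r

/-- coordinates -/
def E0 (x y s r : X) (i j : ZMod m) (κ : K) : X := x ^ i.val * y ^ j.val * kel s r κ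

structure Pr (m : ℕ) (x y s r : X) : Prop where
  ox : orderOf x = m
  oy : orderOf y = m
  cm : x * y = y * x
  dis : zpowers x ⊓ zpowers y = ⊥
  ss : s * s = 1
  rr : r * r = 1
  sr : s * r = r * s
  sx : s * x * s⁻¹ = y
  rx : r * x * r⁻¹ = x⁻¹
  ry : r * y * r⁻¹ = y⁻¹

namespace Pr
variable (h : Pr m x y s r)
include h

theorem sy : s * y * s⁻¹ = x := by
  rw [← h.sx, show s * (s * x * s⁻¹) * s⁻¹ = s * s * x * (s * s)⁻¹ by group, h.ss]; simp

theorem act (κ : K) (i j : ZMod m) : kel s r κ * (x ^ i.val * y ^ j.val) =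
    x ^ (κ.a1 i j).val * y ^ (κ.a2 i j).val * kel s r κ := by
  have c : ∀ a b : ℕ, y ^ a * x ^ b = x ^ b * y ^ a := fun a b =>
    ((show Commute x y from h.cm).pow_pow b a).symm.eq
  have e1 : ∀ i j : ZMod m, s * (x ^ i.val * y ^ j.val) = x ^ j.val * y ^ i.val * s := fun i j => by
    have a1 : s * x ^ i.val * s⁻¹ = y ^ i.val := by rw [← conj_pow, h.sx]
    have a2 : s * y ^ j.val * s⁻¹ = x ^ j.val := by rw [← conj_pow, h.sy]
    rw [← c, ← a1, ← a2]; group
  have e2 : ∀ i j : ZMod m, r * (x ^ i.val * y ^ j.val) = x ^ (-i).val * y ^ (-j).val * r :=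
    fun i j => by
      rw [pw_neg h.ox, pw_neg h.oy, ← inv_pow, ← inv_pow, ← h.rx, ← h.ry, conj_pow, conj_pow]; group
  cases κ <;> simp only [kel, kk]
  · simp
  · exact e1 i j
  · exact e2 i j
  · rw [mul_assoc, e2, ← mul_assoc, e1, mul_assoc]

theorem kmul (κ κ' : K) : kel s r κ * kel s r κ' = kel s r (κ.mul κ') := by
  have e1 : ∀ a, s * (s * a) = a := fun a => by rw [← mul_assoc, h.ss, one_mul]
  have e2 : ∀ a, r * (s * a) = s * (r * a) := fun a => by rw [← mul_assoc, ← h.sr, mul_assoc]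
  cases κ <;> cases κ' <;> simp [kel, kk, h.ss, h.rr, ← h.sr, mul_assoc, e1, e2]

theorem mul (i j : ZMod m) (κ : K) (i' j' : ZMod m) (κ' : K) :
    E0 x y s r i j κ * E0 x y s r i' j' κ' =
      E0 x y s r (i + κ.a1 i' j') (j + κ.a2 i' j') (κ.mul κ') := by
  have c : ∀ a b : ℕ, y ^ a * x ^ b = x ^ b * y ^ a := fun a b =>
    ((show Commute x y from h.cm).pow_pow b a).symm.eq
  simp only [E0]
  rw [mul_assoc, ← mul_assoc (kel s r κ), h.act, pw_add h.ox, pw_add h.oy, ← h.kmul]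
  simp only [mul_assoc]
  rw [← mul_assoc (y ^ j.val), c, mul_assoc]

theorem one : E0 x y s r (0 : ZMod m) 0 K.o = 1 := by simp [E0, kel]

theorem eq1 (hm : 2 < m) {i j : ZMod m} {κ : K} (e : E0 x y s r i j κ = 1) :
    i = 0 ∧ j = 0 ∧ κ = K.o := by
  haveI : Fact (1 < m) := ⟨by omega⟩
  have d : ∀ i j : ZMod m, E0 x y s r i j K.o = 1 → i = 0 ∧ j = 0 := fun i j e => by
    simp only [E0, kel, mul_one] at e
    have : x ^ i.val = 1 := mem_bot.1 (h.dis.le ⟨pow_mem (mem_zpowers x) _, by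
      rw [eq_inv_of_mul_eq_one_left e]; exact (zpowers y).inv_mem (pow_mem (mem_zpowers y) _)⟩)
    rw [this, one_mul] at e
    exact ⟨pw_eq h.ox this, pw_eq h.oy e⟩
  have e1 : E0 x y s r i j κ * E0 x y s r (1 : ZMod m) 0 K.o * E0 x y s r i j κ *
      E0 x y s r (-1 : ZMod m) 0 K.o = 1 := by
    rw [e, one_mul, mul_one, h.mul]; simpa [kk] using h.one
  have e2 : E0 x y s r i j κ * E0 x y s r i j κ = 1 := by rw [e, mul_one]
  simp only [h.mul] at e1 e2
  cases κ <;> simp only [kk] at e1 e2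
  · exact ⟨(d _ _ e).1, (d _ _ e).2, rfl⟩
  · exact absurd (by linear_combination (d _ _ e2).1 - (d _ _ e1).1) (one_ne_zero (α := ZMod m))
  · have : ((2 : ℕ) : ZMod m) = 0 := by push_cast; linear_combination -(d _ _ e1).1
    exact absurd (Nat.le_of_dvd two_pos ((ZMod.natCast_eq_zero_iff _ _).1 this)) (by omega)
  · exact absurd (by linear_combination (d _ _ e2).1 - (d _ _ e1).1) (one_ne_zero (α := ZMod m))

theorem rinv (i j : ZMod m) (κ : K) :
    E0 x y s r i j κ * E0 x y s r (-κ.a1 i j) (-κ.a2 i j) κ = 1 := by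
  rw [h.mul, ← h.one]; cases κ <;> simp [kk]

theorem eq (hm : 2 < m) (i j : ZMod m) (κ : K) (i' j' : ZMod m) (κ' : K) :
    E0 x y s r i j κ = E0 x y s r i' j' κ' ↔ i = i' ∧ j = j' ∧ κ = κ' := by
  refine ⟨fun e => ?_, by rintro ⟨rfl, rfl, rfl⟩; rfl⟩
  have := h.rinv i' j' κ'
  rw [← e, h.mul] at this
  have := h.eq1 hm this
  cases κ <;> cases κ' <;> simp [kk, add_neg_eq_zero] at this ⊢ <;> exact this

theorem dec (hm : 2 < m) (hc : closure {x, y, s, r} = ⊤) (g : X) :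
    ∃ (i j : ZMod m) (κ : K), E0 x y s r i j κ = g := by
  haveI : Fact (1 < m) := ⟨by omega⟩
  have : g ∈ closure {x, y, s, r} := hc ▸ mem_top g
  induction this using closure_induction with
  | mem g hg =>
    rcases hg with rfl | rfl | rfl | rfl
    exacts [⟨1, 0, K.o, by simp [E0, kel, ZMod.val_one]⟩, ⟨0, 1, K.o, by simp [E0, kel, ZMod.val_one]⟩,
      ⟨0, 0, K.s, by simp [E0, kel]⟩, ⟨0, 0, K.r, by simp [E0, kel]⟩]
  | one => exact ⟨0, 0, K.o, h.one⟩
  | mul a b _ _ h1 h2 =>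
    obtain ⟨i, j, κ, rfl⟩ := h1
    obtain ⟨i', j', κ', rfl⟩ := h2
    exact ⟨_, _, _, (h.mul _ _ _ _ _ _).symm⟩
  | inv a _ h1 =>
    obtain ⟨i, j, κ, rfl⟩ := h1
    exact ⟨_, _, _, eq_inv_of_mul_eq_one_right (h.rinv i j κ)⟩

end Pr
end

theorem zodd (k : ℕ) (j : ZMod (2 ^ (k + 2))) : 2 * j ≠ 1 := fun e => by
  have := congrArg (ZMod.castHom (dvd_pow_self 2 (Nat.succ_ne_zero (k + 1))) (ZMod 2)) e
  rw [map_mul, map_one, map_ofNat, show (2 : ZMod 2) = 0 from rfl, zero_mul] at this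
  exact zero_ne_one this

theorem mkP {G : Type u} [Group G] [Finite G] {S : Subgroup G} (hS : IsSylowOf 2 S ⊤)
    {X : Type*} [Group X] (e : S ≃* X) {k : ℕ} {x y s r : X} (h : Pr (2 ^ (k + 2)) x y s r)
    (hc : closure {x, y, s, r} = ⊤) :
    ∃ E : ZMod (2 ^ (k + 2)) → ZMod (2 ^ (k + 2)) → K → G, P S E (2 ^ k) := by
  have hm : 2 < 2 ^ (k + 2) := lt_of_lt_of_le (by norm_num)
    (Nat.pow_le_pow_right two_pos (Nat.le_add_left 2 k))
  refine ⟨fun i j κ => (e.symm (E0 x y s r i j κ) : G), hS, fun _ _ _ _ _ _ => ?_,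
    fun _ _ _ _ _ _ => ?_, fun _ _ _ => Subtype.prop _, fun g hg => ?_, ?_, ?_, fun i hi => ?_,
    fun i => ?_, zodd k, fun i => ?_, ?_⟩
  · rw [← coe_mul, ← map_mul, h.mul]
  · rw [← h.eq hm, Subtype.coe_inj, e.symm.apply_eq_iff_eq]
  · obtain ⟨i, j, κ, e1⟩ := h.dec hm hc (e ⟨g, hg⟩)
    exact ⟨i, j, κ, by rw [e1, e.symm_apply_apply]⟩
  · have := ZMod.natCast_self (2 ^ (k + 2))
    push_cast at this
    linear_combination this
  · intro e1
    have : ((2 ^ (k + 1) : ℕ) : ZMod (2 ^ (k + 2))) = 0 := by push_cast; linear_combination e1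
    have := Nat.le_of_dvd (by positivity) ((ZMod.natCast_eq_zero_iff _ _).1 this)
    rw [Nat.pow_le_pow_iff_right one_lt_two] at this
    omega
  · have h1 : ((2 * i.val : ℕ) : ZMod (2 ^ (k + 2))) = 0 := by
      push_cast; rwa [ZMod.natCast_zmod_val]
    obtain ⟨c, hc⟩ := (ZMod.natCast_eq_zero_iff _ _).1 h1
    have h2 : i.val = 2 ^ (k + 1) * c := by
      generalize i.val = n at hc; rw [pow_succ] at hc; linarith
    have h3 : 2 ^ (k + 1) * c < 2 ^ (k + 1) * 2 := by rw [← h2, ← pow_succ]; exact i.val_lt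
    have : c < 2 := lt_of_mul_lt_mul_left h3 (Nat.zero_le _)
    rw [← ZMod.natCast_zmod_val i, h2]
    interval_cases c
    · simp
    · right; push_cast; ring
  · obtain ⟨n, rfl⟩ := ZMod.intCast_surjective i
    obtain ⟨c, rfl | rfl⟩ := Int.even_or_odd' n
    exacts [⟨c, Or.inl (by push_cast; rfl)⟩, ⟨c, Or.inr (by push_cast; rfl)⟩]
  · obtain ⟨n, rfl⟩ := ZMod.intCast_surjective i
    exact ⟨n, rfl⟩
  · cases k
    · left; simp
    · right; exact ⟨_, pow_succ' _ _⟩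

theorem k_zero {k : ℕ} (h : (2 ^ k : ZMod (2 ^ (k + 2))) = 1) : k = 0 := by
  cases k with
  | zero => rfl
  | succ n => exact absurd ((pow_succ' _ _).symm.trans h) (zodd (n + 1) (2 ^ n))

end GA2
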